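import Cfsg.Agent.Alt12Inv.Twenty.Lifts

/-!
The centralizer of a regular elementary group on eight points, and the braid relation between a crossing
involution and a conjugate of a flip.
-/

set_option autoImplicit false
set_option linter.style.haveILetI false

namespace CfsgLib.Alt12Inv

open Equiv

universe u

/-- The action of the exchange of the first and the last quadruple on codes. -/
def codeY (v : Fin 64) : Fin 64 :=
  ⟨(v.1 / 16 % 4 + 4 * (v.1 / 4 % 4) + 16 * (v.1 % 4)) % 64, Nat.mod_lt _ (by decide)⟩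

/-- The rotation of the second quadruple on codes. -/
def rot1 (v : Fin 64) : Fin 64 := codeP (rotCode (codeP v))

/-- The rotation of the last quadruple on codes. -/
def rot2 (v : Fin 64) : Fin 64 := codeY (rotCode (codeY v))

theorem conj_Y : ∀ v, cY * aC v * cY = aC (codeY v) := by decide +kernel
theorem codeY_codeY : ∀ v, codeY (codeY v) = v := by decide +kernel
theorem rot1_rot1 : ∀ v, rot1 (rot1 (rot1 v)) = v := by unfold rot1; decide +kernel

/-- The regular elementary group on the first eight points. -/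
def regEl (i : Fin 8) : ↥C₀ :=
  aC ([0, 5, 10, 15].getD (i.1 % 4) 0) * if i.1 < 4 then 1 else cP

theorem regEl_facts : (∀ i, regEl i * regEl i = 1) ∧
    (∀ i, regEl i * aC 5 = aC 5 * regEl i ∧ regEl i * aC 10 = aC 10 * regEl i ∧ regEl i * cP = cP * regEl i) ∧
    ∀ i, ((regEl i : Perm (Fin 12)) 0).1 = i.1 := by
  refine ⟨?_, ?_, ?_⟩ <;> decide +kernel

/-- The centralizer of the regular group inside the centralizer. -/
theorem cent_reg (x : ↥C₀) (h5 : x * aC 5 = aC 5 * x) (h10 : x * aC 10 = aC 10 * x) (hP : x * cP = cP * x) :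
    ∃ i k : Fin 64, ∃ j : Fin 8, i = k ∧ k.1 % 16 = 0 ∧ x = regEl j * aC k := by
  have app : ∀ {g : ↥C₀}, x * g = g * x → ∀ p, x.1 (g.1 p) = g.1 (x.1 p) := fun h p =>
    congrArg (fun y : ↥C₀ => y.1 p) h
  have hmov : ∀ p : Fin 12, (aC 5).1 p ≠ p ↔ p.1 < 8 := by decide +kernel
  have hlow : ∀ p : Fin 12, p.1 < 8 ↔ (x.1 p).1 < 8 := fun p => by
    rw [← hmov, ← hmov, ← app h5]
    exact (x.1.injective.ne_iff).symm
  obtain ⟨j, hj⟩ : ∃ j : Fin 8, j.1 = (x.1 0).1 := ⟨⟨_, (hlow 0).1 (by decide)⟩, rfl⟩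
  obtain ⟨k, hk16, hk⟩ : ∃ k : Fin 64, k.1 % 16 = 0 ∧ (aC k).1 (x.1 8) = 8 := by
    have key : ∀ p : Fin 12, 8 ≤ p.1 → ∃ k : Fin 64, k.1 % 16 = 0 ∧ (aC k).1 p = 8 := by decide +kernel
    exact key _ (by have := hlow 8; simp at this; omega)
  refine ⟨k, k, j, rfl, hk16, ?_⟩
  obtain ⟨y, hy⟩ : ∃ y, y = aC k * regEl j * x := ⟨_, rfl⟩
  have hback : x = regEl j * aC k * y := by
    rw [hy]
    calc x = (regEl j * regEl j) * x := by rw [regEl_facts.1, one_mul]
      _ = regEl j * (aC k * aC k) * regEl j * x := by rw [aC_sq, mul_one]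
      _ = _ := by group
  suffices y = 1 by rw [hback, this, mul_one]
  have ck : ∀ k : Fin 64, k.1 % 16 = 0 → aC k * aC 5 = aC 5 * aC k ∧ aC k * aC 10 = aC 10 * aC k ∧
      aC k * cP = cP * aC k ∧ (∀ p : Fin 12, p.1 < 8 → (aC k).1 p = p) := by decide +kernel
  obtain ⟨k5, k10, kP, kfix⟩ := ck k hk16
  obtain ⟨r5, r10, rP⟩ := regEl_facts.2.1 j
  have cy : ∀ g : ↥C₀, Commute (aC k) g → Commute (regEl j) g → Commute x g → ∀ p, y.1 (g.1 p) = g.1 (y.1 p) :=
    fun g a b c p => congrArg (fun z : ↥C₀ => z.1 p) (hy ▸ ((a.mul_left b).mul_left c).eq)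
  have y5 := cy _ k5 r5 h5
  have y10 := cy _ k10 r10 h10
  have yP := cy _ kP rP hP
  have r8 : ∀ j, ∀ p : Fin 12, 8 ≤ p.1 → (regEl j).1 p = p := by decide +kernel
  have y0 : y.1 0 = 0 := by
    rw [hy]
    show (aC k).1 ((regEl j).1 (x.1 0)) = 0
    have e0 : x.1 0 = (regEl j).1 0 := Fin.ext (by rw [regEl_facts.2.2, hj])
    have e1 : (regEl j).1 ((regEl j).1 0) = 0 := congrArg (fun z : ↥C₀ => z.1 0) (regEl_facts.1 j)
    rw [e0, e1]
    exact kfix 0 (by decide)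
  have y8 : y.1 8 = 8 := by
    rw [hy]
    show (aC k).1 ((regEl j).1 (x.1 8)) = 8
    rw [r8 j _ (by have := hlow 8; simp at this; omega), hk]
  have y9 : y.1 9 = 9 := by
    have h := congrArg (fun z : Perm (Fin 12) => z 8) (mem_C₀.1 y.2).2
    simp only [Perm.mul_apply] at h
    rw [y8, show t₀ 8 = 9 from by decide +kernel] at h
    exact h
  obtain ⟨y1, y2, y3, y4, y5', y6, y7⟩ : y.1 1 = 1 ∧ y.1 2 = 2 ∧ y.1 3 = 3 ∧ y.1 4 = 4 ∧ y.1 5 = 5 ∧
      y.1 6 = 6 ∧ y.1 7 = 7 := by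
    clear hback cy h5 h10 hP app
    have e1 := y5 0; have e2 := y10 0; have e4 := yP 0
    rw [y0] at e1 e2 e4
    rw [show (aC 5).1 0 = 1 from by decide +kernel] at e1
    rw [show (aC 10).1 0 = 2 from by decide +kernel] at e2
    rw [show cP.1 0 = 4 from by decide +kernel] at e4
    have e3 := y5 2; have e5 := y5 4; have e6 := y10 4
    rw [e2, show (aC 5).1 2 = 3 from by decide +kernel] at e3
    rw [e4, show (aC 5).1 4 = 5 from by decide +kernel] at e5
    rw [e4, show (aC 10).1 4 = 6 from by decide +kernel] at e6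
    have e7 := y10 5
    rw [e5, show (aC 10).1 5 = 7 from by decide +kernel] at e7
    exact ⟨e1, e2, e3, e4, e5, e6, e7⟩
  have key : ∀ p : Fin 12, p ≠ 0 → p ≠ 1 → p ≠ 2 → p ≠ 3 → p ≠ 4 → p ≠ 5 → p ≠ 6 → p ≠ 7 → p ≠ 8 →
      p ≠ 9 → p = 10 ∨ p = 11 := by decide
  have h10' : y.1 10 = 10 ∨ y.1 10 = 11 :=
    key _ (by rw [← y0]; exact y.1.injective.ne (by decide)) (by rw [← y1]; exact y.1.injective.ne (by decide))
      (by rw [← y2]; exact y.1.injective.ne (by decide)) (by rw [← y3]; exact y.1.injective.ne (by decide))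
      (by rw [← y4]; exact y.1.injective.ne (by decide)) (by rw [← y5']; exact y.1.injective.ne (by decide))
      (by rw [← y6]; exact y.1.injective.ne (by decide)) (by rw [← y7]; exact y.1.injective.ne (by decide))
      (by rw [← y8]; exact y.1.injective.ne (by decide)) (by rw [← y9]; exact y.1.injective.ne (by decide))
  have h11 : y.1 11 = t₀ (y.1 10) := by
    have h := congrArg (fun z : Perm (Fin 12) => z 10) (mem_C₀.1 y.2).2
    simp only [Perm.mul_apply] at h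
    rwa [show t₀ 10 = 11 from by decide +kernel] at h
  rcases h10' with e | e
  · refine c_ext_iff.2 fun p => ?_
    rw [e, show t₀ 10 = 11 from by decide +kernel] at h11
    fin_cases p <;> assumption
  · exfalso
    rw [e, show t₀ 11 = 10 from by decide +kernel] at h11
    have hs : (y : Perm (Fin 12)) = swap 10 11 := by
      ext p
      fin_cases p <;> simp only [swap_apply_def] <;> simp [y0, y1, y2, y3, y4, y5', y6, y7, y8, y9, e, h11]
    have := (mem_C₀.1 y.2).1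
    rw [hs, Perm.mem_alternatingGroup, Perm.sign_swap (by decide)] at this
    exact absurd this (by decide)

namespace Lift

variable {G : Type u} [Group G] {α : G} {F : Frame α} (L : Lift F)

/-- The lift for the second quadruple. -/
def t1 : G := F.ι cP * L.t * F.ι cP

/-- The lift for the last quadruple. -/
def t2 : G := F.ι cY * L.t * F.ι cY

/-- The image of `(1 2)(5 6)`. -/
def f1 : G := L.t * L.t1 * F.ι cHW * (L.t * L.t1)⁻¹

/-- The image of `(0 2)(5 6)`. -/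
def f2 : G := F.ι cG * L.f1 * F.ι cG

theorem ι_sq {x : ↥C₀} (h : x * x = 1) : F.ι x * F.ι x = 1 := by rw [← map_mul, h, map_one]

theorem ι_inv {x : ↥C₀} (h : x * x = 1) : (F.ι x)⁻¹ = F.ι x := inv_eq_of_mul_eq_one_right (ι_sq h)

theorem conj_a {x : ↥C₀} {v w : Fin 64} (h : x * aC v * x = aC w) : F.ι x * F.a v * F.ι x = F.a w := by
  rw [Frame.a, Frame.a, ← h, map_mul, map_mul]

include L

theorem act_inv (v : Fin 64) : L.t⁻¹ * F.a v * L.t = F.a (rotCode (rotCode v)) := by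
  conv_lhs => rw [← rotCode_three v, ← L.act (rotCode (rotCode v))]
  group

theorem t1_act (v : Fin 64) : L.t1 * F.a v * L.t1⁻¹ = F.a (rot1 v) := by
  calc L.t1 * F.a v * L.t1⁻¹ = F.ι cP * (L.t * (F.ι cP * F.a v * (F.ι cP)⁻¹) * L.t⁻¹) * (F.ι cP)⁻¹ := by
        rw [t1]; group
    _ = _ := by rw [ι_inv cP_sq, conj_a (conj_P v), L.act, conj_a (conj_P _)]; rfl

theorem t1_act_inv (v : Fin 64) : L.t1⁻¹ * F.a v * L.t1 = F.a (rot1 (rot1 v)) := by
  conv_lhs => rw [← rot1_rot1 v, ← L.t1_act (rot1 (rot1 v))]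
  group

theorem t2_act (v : Fin 64) : L.t2 * F.a v * L.t2⁻¹ = F.a (rot2 v) := by
  calc L.t2 * F.a v * L.t2⁻¹ = F.ι cY * (L.t * (F.ι cY * F.a v * (F.ι cY)⁻¹) * L.t⁻¹) * (F.ι cY)⁻¹ := by
        rw [t2]; group
    _ = _ := by rw [ι_inv cY_sq, conj_a (conj_Y v), L.act, conj_a (conj_Y _)]; rfl

theorem t1_cube : L.t1 ^ 3 = 1 := by
  have := conj_pow (a := F.ι cP) (b := L.t) (i := 3)
  rw [ι_inv cP_sq, L.cube, mul_one, ι_sq cP_sq] at this
  exact this

theorem t2_cube : L.t2 ^ 3 = 1 := by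
  have := conj_pow (a := F.ι cY) (b := L.t) (i := 3)
  rw [ι_inv cY_sq, L.cube, mul_one, ι_sq cY_sq] at this
  exact this

theorem P_t : F.ι cP * L.t * F.ι cP = L.t1 := rfl

theorem P_t1 : F.ι cP * L.t1 * F.ι cP = L.t := by
  calc F.ι cP * L.t1 * F.ι cP = (F.ι cP * F.ι cP) * L.t * (F.ι cP * F.ι cP) := by rw [t1]; group
    _ = _ := by rw [ι_sq cP_sq, one_mul, mul_one]

theorem W_t1 : F.ι cHW * L.t1 * F.ι cHW = L.t1⁻¹ := by
  have e : F.ι cHW * F.ι cP = F.ι cP * F.ι cHW := by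
    rw [← map_mul, ← map_mul]; exact congrArg _ (by decide +kernel)
  calc F.ι cHW * L.t1 * F.ι cHW = (F.ι cHW * F.ι cP) * L.t * (F.ι cP * F.ι cHW) := by rw [t1]; group
    _ = F.ι cP * (F.ι cHW * L.t * F.ι cHW) * F.ι cP := by rw [← e]; group; rw [e]
    _ = _ := by rw [L.invW, t1]; simp only [mul_inv_rev, ι_inv cP_sq]; group

theorem G_t : F.ι cG * L.t * F.ι cG = L.t⁻¹ := by
  rw [show cG = cHW * cFlip from by decide +kernel]
  conv_lhs => arg 2; rw [show cHW * cFlip = cFlip * cHW from by decide +kernel]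
  rw [map_mul, map_mul]
  calc F.ι cHW * F.ι cFlip * L.t * (F.ι cFlip * F.ι cHW) = F.ι cHW * (F.ι cFlip * L.t) * F.ι cFlip * F.ι cHW := by group
    _ = F.ι cHW * L.t * (F.ι cFlip * F.ι cFlip) * F.ι cHW := by rw [L.fixF.eq]; group
    _ = _ := by rw [ι_sq cFlip_sq, mul_one, L.invW]

theorem G_t1 : F.ι cG * L.t1 * F.ι cG = L.t1 := by
  have e : F.ι cG * F.ι cP = F.ι cP * F.ι cFlip := by
    rw [← map_mul, ← map_mul]; exact congrArg _ (by decide +kernel)
  have e' : F.ι cP * F.ι cG = F.ι cFlip * F.ι cP := by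
    rw [← map_mul, ← map_mul]; exact congrArg _ (by decide +kernel)
  calc F.ι cG * L.t1 * F.ι cG = (F.ι cG * F.ι cP) * L.t * (F.ι cP * F.ι cG) := by rw [t1]; group
    _ = F.ι cP * (F.ι cFlip * L.t) * F.ι cFlip * F.ι cP := by rw [e, e']; group
    _ = _ := by
        rw [L.fixF.eq, show F.ι cP * (L.t * F.ι cFlip) * F.ι cFlip * F.ι cP = F.ι cP * L.t * (F.ι cFlip * F.ι cFlip) * F.ι cP by group,
          ι_sq cFlip_sq, mul_one, t1]

theorem f2_eq : L.f2 = L.t⁻¹ * L.t1 * F.ι cHW * L.t1⁻¹ * L.t := by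
  have e : F.ι cG * F.ι cHW = F.ι cHW * F.ι cG := by
    rw [← map_mul, ← map_mul]; exact congrArg _ (by decide +kernel)
  have g2 := ι_sq (F := F) cG_sq
  calc L.f2 = (F.ι cG * L.t * F.ι cG) * (F.ι cG * L.t1 * F.ι cG) * (F.ι cG * F.ι cHW * F.ι cG) *
        (F.ι cG * L.t1 * F.ι cG)⁻¹ * (F.ι cG * L.t * F.ι cG)⁻¹ := by
        rw [f2, f1]
        simp only [mul_inv_rev, ι_inv cG_sq]
        symm
        calc _ = F.ι cG * L.t * (F.ι cG * F.ι cG) * L.t1 * (F.ι cG * F.ι cG) * F.ι cHW * (F.ι cG * F.ι cG) *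
              L.t1⁻¹ * (F.ι cG * F.ι cG) * L.t⁻¹ * F.ι cG := by group
          _ = _ := by rw [g2]; group
    _ = _ := by
        rw [L.G_t, L.G_t1, e, mul_assoc (F.ι cHW), g2, mul_one, inv_inv, mul_assoc]

theorem X_t1 : F.ι cX * L.t1 * F.ι cX = L.t2 := by
  have e : F.ι cX * F.ι cP = F.ι cY * F.ι cX := by
    rw [← map_mul, ← map_mul]; exact congrArg _ (by decide +kernel)
  have e' : F.ι cP * F.ι cX = F.ι cX * F.ι cY := by
    rw [← map_mul, ← map_mul]; exact congrArg _ (by decide +kernel)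
  calc F.ι cX * L.t1 * F.ι cX = (F.ι cX * F.ι cP) * L.t * (F.ι cP * F.ι cX) := by rw [t1]; group
    _ = F.ι cY * (F.ι cX * L.t) * F.ι cX * F.ι cY := by rw [e, e']; group
    _ = _ := by
        rw [L.fixX.eq, show F.ι cY * (L.t * F.ι cX) * F.ι cX * F.ι cY = F.ι cY * L.t * (F.ι cX * F.ι cX) * F.ι cY by group,
          ι_sq cX_sq, mul_one, t2]

theorem comm_t_t2 : Commute L.t L.t2 := by
  have h := L.comm.map (MulAut.conj (F.ι cX)).toMonoidHom
  simp only [MulEquiv.coe_toMonoidHom, MulAut.conj_apply, ι_inv cX_sq] at h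
  rw [L.fixX.eq, mul_assoc L.t, ι_sq cX_sq, mul_one] at h
  rwa [show F.ι cX * (F.ι cP * L.t * F.ι cP) * F.ι cX = L.t2 from L.X_t1] at h

theorem P_t2 : Commute (F.ι cP) L.t2 := by
  have e : F.ι cP * F.ι cY = F.ι cY * F.ι cX := by
    rw [← map_mul, ← map_mul]; exact congrArg _ (by decide +kernel)
  have e' : F.ι cY * F.ι cP = F.ι cX * F.ι cY := by
    rw [← map_mul, ← map_mul]; exact congrArg _ (by decide +kernel)
  show F.ι cP * L.t2 = L.t2 * F.ι cP
  calc F.ι cP * L.t2 = (F.ι cP * F.ι cY) * L.t * F.ι cY := by rw [t2]; group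
    _ = F.ι cY * (F.ι cX * L.t) * F.ι cY := by rw [e]; group
    _ = F.ι cY * L.t * (F.ι cX * F.ι cY) := by rw [L.fixX.eq]; group
    _ = _ := by rw [← e', t2]; group

theorem comm_t1_t2 : Commute L.t1 L.t2 := by
  have h := L.comm_t_t2.map (MulAut.conj (F.ι cP)).toMonoidHom
  simp only [MulEquiv.coe_toMonoidHom, MulAut.conj_apply, ι_inv cP_sq] at h
  rw [L.P_t, L.P_t2.eq, mul_assoc L.t2, ι_sq cP_sq, mul_one] at h
  exact h

theorem W_t2 : Commute (F.ι cHW) L.t2 := by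
  have e : F.ι cHW * F.ι cY = F.ι cY * F.ι cFlip := by
    rw [← map_mul, ← map_mul]; exact congrArg _ (by decide +kernel)
  have e' : F.ι cY * F.ι cHW = F.ι cFlip * F.ι cY := by
    rw [← map_mul, ← map_mul]; exact congrArg _ (by decide +kernel)
  show F.ι cHW * L.t2 = L.t2 * F.ι cHW
  calc F.ι cHW * L.t2 = (F.ι cHW * F.ι cY) * L.t * F.ι cY := by rw [t2]; group
    _ = F.ι cY * (F.ι cFlip * L.t) * F.ι cY := by rw [e]; group
    _ = F.ι cY * L.t * (F.ι cFlip * F.ι cY) := by rw [L.fixF.eq]; group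
    _ = _ := by rw [← e', t2]; group

theorem f1_t2 : Commute L.f1 L.t2 :=
  ((L.comm_t_t2.mul_left L.comm_t1_t2).mul_left L.W_t2).mul_left (L.comm_t_t2.mul_left L.comm_t1_t2).inv_left

theorem f1_sq : L.f1 * L.f1 = 1 := by
  calc L.f1 * L.f1 = L.t * L.t1 * (F.ι cHW * F.ι cHW) * (L.t * L.t1)⁻¹ := by rw [f1]; group
    _ = 1 := by rw [ι_sq cHW_sq, mul_one, mul_inv_cancel]

theorem f1_inv : L.f1⁻¹ = L.f1 := inv_eq_of_mul_eq_one_right L.f1_sq

theorem f1_act (v : Fin 64) :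
    L.f1 * F.a v * L.f1 = F.a (rotCode (rot1 (codeW (rot1 (rot1 (rotCode (rotCode v))))))) := by
  conv_lhs => arg 2; rw [← L.f1_inv]
  calc L.f1 * F.a v * L.f1⁻¹
      = L.t * (L.t1 * (F.ι cHW * (L.t1⁻¹ * (L.t⁻¹ * F.a v * L.t) * L.t1) * (F.ι cHW)⁻¹) * L.t1⁻¹) * L.t⁻¹ := by
        rw [f1]; group
    _ = _ := by rw [L.act_inv, L.t1_act_inv, ι_inv cHW_sq, conj_a (conj_W _), L.t1_act, L.act]

theorem a_P : Commute (L.t * L.t1) (F.ι cP) := by
  show L.t * L.t1 * F.ι cP = F.ι cP * (L.t * L.t1)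
  calc L.t * L.t1 * F.ι cP = L.t1 * L.t * F.ι cP := by rw [show L.t * L.t1 = L.t1 * L.t from L.comm.eq]
    _ = (F.ι cP * L.t * F.ι cP) * (F.ι cP * L.t1 * F.ι cP) * F.ι cP := by rw [L.P_t, L.P_t1]
    _ = F.ι cP * L.t * (F.ι cP * F.ι cP) * L.t1 * (F.ι cP * F.ι cP) := by group
    _ = _ := by rw [ι_sq cP_sq, mul_one, mul_one]; group

theorem f1_P : Commute L.f1 (F.ι cP) := by
  refine (L.a_P.mul_left ?_).mul_left L.a_P.inv_left
  show F.ι cHW * F.ι cP = F.ι cP * F.ι cHW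
  rw [← map_mul, ← map_mul]; exact congrArg _ (by decide +kernel)

end Lift

namespace Twenty

variable {G : Type u} [Group G] {α : G} (T : Twenty α) (L : Lift T.F)

theorem mem_range {c : G} (h5 : Commute c (T.F.a 5)) (h16 : Commute c (T.F.a 16)) : c ∈ T.F.ι.range := by
  rw [T.F.range_eq, Subgroup.mem_centralizer_singleton_iff, ← T.F.centre]
  have e : T.F.a 5 * T.F.a 16 = T.F.ι (aC 21) := by rw [T.F.code_mul]; exact congrArg T.F.ι (by decide +kernel)
  exact e ▸ (h5.mul_right h16).eq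

theorem cent_R {c : G} (h5 : Commute c (T.F.a 5)) (h10 : Commute c (T.F.a 10)) (hP : Commute c (T.F.ι cP))
    (h16 : Commute c (T.F.a 16)) : ∃ j k, k.1 % 16 = 0 ∧ c = T.F.ι (regEl j) * T.F.a k := by
  obtain ⟨x, rfl⟩ := T.mem_range h5 h16
  obtain ⟨-, k, j, -, hk, e⟩ := cent_reg x
    (T.F.inj (by rw [map_mul, map_mul]; exact h5.eq))
    (T.F.inj (by rw [map_mul, map_mul]; exact h10.eq))
    (T.F.inj (by rw [map_mul, map_mul]; exact hP.eq))
  exact ⟨j, k, hk, by rw [e, map_mul]; rfl⟩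

theorem R_comm (i : Fin 8) {c : G} (h5 : Commute c (T.F.a 5)) (h10 : Commute c (T.F.a 10))
    (hP : Commute c (T.F.ι cP)) : Commute c (T.F.ι (regEl i)) := by
  have h15 : Commute c (T.F.a 15) := by
    have e : T.F.a 5 * T.F.a 10 = T.F.a 15 := by rw [T.F.code_mul]; exact congrArg T.F.a (by decide +kernel)
    exact e ▸ h5.mul_right h10
  rw [regEl, map_mul]
  refine Commute.mul_right ?_ ?_
  · have key : ∀ i : Fin 8, ([0, 5, 10, 15] : List (Fin 64)).getD (i.1 % 4) 0 ∈ [(0 : Fin 64), 5, 10, 15] := by decide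
    have := key i
    simp only [List.mem_cons, List.not_mem_nil, or_false] at this
    rcases this with h | h | h | h <;> rw [h]
    exacts [by rw [show T.F.ι (aC 0) = T.F.a 0 from rfl, T.F.code_zero]; exact Commute.one_right c, h5, h10, h15]
  · split
    · rw [map_one]; exact Commute.one_right c
    · exact hP

include L

theorem t2_R : Commute L.t2 (T.F.a 5) ∧ Commute L.t2 (T.F.a 10) := by
  have h : ∀ v, rot2 v = v → Commute L.t2 (T.F.a v) := fun v e => by
    have := L.t2_act v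
    rw [e] at this
    exact mul_inv_eq_iff_eq_mul.1 this
  exact ⟨h 5 (by decide +kernel), h 10 (by decide +kernel)⟩

theorem t2_S : Commute L.t2 (T.F.ι cS) := by
  obtain ⟨s, hs⟩ : ∃ s, s = T.F.ι cS := ⟨_, rfl⟩
  rw [← hs]
  have ss : s * s = 1 := hs ▸ Lift.ι_sq cS_sq
  have si : s⁻¹ = s := inv_eq_of_mul_eq_one_right ss
  have sa : ∀ v w, cS * aC v * cS = aC w → s * T.F.a v * s = T.F.a w := fun v w h => hs ▸ Lift.conj_a h
  have sP : s * T.F.ι cP * s = T.F.a 10 := by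
    rw [hs, ← map_mul, ← map_mul]; exact congrArg T.F.ι (by decide +kernel)
  have s10 : s * T.F.a 10 * s = T.F.ι cP := by
    rw [hs, Frame.a, ← map_mul, ← map_mul]; exact congrArg T.F.ι (by decide +kernel)
  have s5 := sa 5 5 (by decide +kernel)
  obtain ⟨h5, h10⟩ := T.t2_R L
  obtain ⟨x, hx⟩ : ∃ x, x = L.t2⁻¹ * (s * L.t2 * s) := ⟨_, rfl⟩
  have hc : ∀ r r', s * r * s = r' → Commute L.t2 r → Commute (s * L.t2 * s) r' := by
    intro r r' e hr
    subst e
    have := hr.map (MulAut.conj s).toMonoidHom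
    simpa only [MulEquiv.coe_toMonoidHom, MulAut.conj_apply, si] using this
  have hv : ∀ v : Fin 64, v.1 % 16 = 0 → s * L.t2 * s * T.F.a v * (s * L.t2 * s)⁻¹ = T.F.a (rot2 v) := by
    intro v hv
    have k1 : ∀ v : Fin 64, v.1 % 16 = 0 → cS * aC v * cS = aC v ∧ cS * aC (rot2 v) * cS = aC (rot2 v) := by
      decide +kernel
    calc s * L.t2 * s * T.F.a v * (s * L.t2 * s)⁻¹ = s * (L.t2 * (s * T.F.a v * s⁻¹) * L.t2⁻¹) * s⁻¹ := by group
      _ = _ := by rw [si, sa v v (k1 v hv).1, L.t2_act, sa _ _ (k1 v hv).2]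
  have hx16 : Commute x (T.F.a 16) := by
    show x * T.F.a 16 = T.F.a 16 * x
    rw [hx]
    calc L.t2⁻¹ * (s * L.t2 * s) * T.F.a 16
        = L.t2⁻¹ * (s * L.t2 * s * T.F.a 16 * (s * L.t2 * s)⁻¹) * (s * L.t2 * s) := by group
      _ = L.t2⁻¹ * (L.t2 * T.F.a 16 * L.t2⁻¹) * (s * L.t2 * s) := by rw [hv 16 (by decide), L.t2_act]
      _ = _ := by group
  obtain ⟨j, k, hk, e⟩ := T.cent_R (c := x)
    (hx ▸ h5.inv_left.mul_left (hc _ _ s5 h5)) (hx ▸ h10.inv_left.mul_left (hc _ _ sP L.P_t2.symm))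
    (hx ▸ L.P_t2.symm.inv_left.mul_left (hc _ _ s10 h10)) hx16
  have ht : s * L.t2 * s = L.t2 * T.F.a k * T.F.ι (regEl j) := by
    have hjk : Commute (T.F.ι (regEl j)) (T.F.a k) := by
      have h : ∀ j (k : Fin 64), k.1 % 16 = 0 → regEl j * aC k = aC k * regEl j := by decide +kernel
      show T.F.ι _ * T.F.ι _ = T.F.ι _ * T.F.ι _
      rw [← map_mul, ← map_mul, h j k hk]
    rw [mul_assoc L.t2, ← hjk.eq, ← e, hx]; group
  have hA : (L.t2 * T.F.a k) ^ 3 = 1 := by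
    have key : ∀ k : Fin 64, k.1 % 16 = 0 → vadd (vadd k (rot2 (rot2 k))) (rot2 k) = 0 := by decide +kernel
    have i1 : L.t2⁻¹ * T.F.a k * L.t2 = T.F.a (rot2 (rot2 k)) := by
      have h3 : ∀ v, rot2 (rot2 (rot2 v)) = v := by decide +kernel
      conv_lhs => rw [← h3 k, ← L.t2_act (rot2 (rot2 k))]
      group
    calc (L.t2 * T.F.a k) ^ 3 = L.t2 ^ 3 * ((L.t2⁻¹ * (L.t2⁻¹ * T.F.a k * L.t2) * L.t2) * (L.t2⁻¹ * T.F.a k * L.t2) * T.F.a k) := by
          rw [pow_succ, pow_two, pow_succ, pow_two]; group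
      _ = T.F.a (rot2 k) * T.F.a (rot2 (rot2 k)) * T.F.a k := by
          rw [L.t2_cube, one_mul, i1]
          congr 2
          have h3 : ∀ v, rot2 (rot2 (rot2 (rot2 v))) = rot2 v := by decide +kernel
          have h4 : ∀ v, rot2 (rot2 (rot2 v)) = v := by decide +kernel
          conv_lhs => rw [← h4 (rot2 (rot2 k)), ← L.t2_act (rot2 (rot2 (rot2 (rot2 k)))), h3]
          group
      _ = 1 := by
          rw [T.F.code_mul, T.F.code_mul, vadd_comm (rot2 k), vadd_comm, ← T.F.code_zero]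
          congr 1
          have key' : ∀ k : Fin 64, k.1 % 16 = 0 → vadd k (vadd (rot2 (rot2 k)) (rot2 k)) = 0 := by decide +kernel
          exact key' k hk
  have hr : Commute (L.t2 * T.F.a k) (T.F.ι (regEl j)) := by
    refine T.R_comm j ?_ ?_ ?_
    · exact h5.mul_left (T.F.a_comm _ _)
    · exact h10.mul_left (T.F.a_comm _ _)
    · refine L.P_t2.symm.mul_left ?_
      have h : ∀ k : Fin 64, k.1 % 16 = 0 → aC k * cP = cP * aC k := by decide +kernel
      show T.F.ι _ * T.F.ι _ = T.F.ι _ * T.F.ι _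
      rw [← map_mul, ← map_mul, h k hk]
  have hj1 : T.F.ι (regEl j) = 1 := by
    have h3 : (s * L.t2 * s) ^ 3 = 1 := by
      calc (s * L.t2 * s) ^ 3 = (s * L.t2 * s⁻¹) ^ 3 := by rw [si]
        _ = _ := by rw [conj_pow, L.t2_cube]; group
    rw [ht, hr.mul_pow, hA, one_mul, pow_succ, pow_two, ← map_mul, regEl_facts.1, map_one, one_mul] at h3
    exact h3
  rw [hj1, mul_one] at ht
  -- the braid relation with a translation of the second quadruple kills the shift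
  obtain ⟨q, hq⟩ : ∃ q, q = T.F.a 8 := ⟨_, rfl⟩
  have qq : q * q = 1 := by rw [hq, T.F.code_mul, vadd_self, T.F.code_zero]
  have qt : Commute q L.t2 := by
    have := L.t2_act 8
    rw [show rot2 8 = 8 from by decide +kernel, ← hq] at this
    exact (mul_inv_eq_iff_eq_mul.1 this).symm
  have qk : Commute q (T.F.a k) := hq ▸ T.F.a_comm 8 k
  have sk : s * T.F.a k * s = T.F.a k := by
    have h : ∀ k : Fin 64, k.1 % 16 = 0 → cS * aC k * cS = aC k := by decide +kernel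
    exact sa k k (h k hk)
  have br : s * q * s = q * s * q := by
    rw [hs, hq, Frame.a, ← map_mul, ← map_mul, ← map_mul, ← map_mul]; exact congrArg T.F.ι (by decide +kernel)
  have e1 : (q * s * q) * L.t2 * (q * s * q) = L.t2 * T.F.a k := by
    calc (q * s * q) * L.t2 * (q * s * q) = q * s * (q * L.t2) * q * s * q := by group
      _ = q * (s * L.t2 * s) * q := by rw [qt.eq, mul_assoc (q * s) (L.t2 * q) q, mul_assoc L.t2 q q, qq]; group
      _ = L.t2 * T.F.a k := by rw [ht, (qt.mul_right qk).eq, mul_assoc, qq, mul_one]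
  have e2 : (s * q * s) * L.t2 * (s * q * s) = L.t2 := by
    calc (s * q * s) * L.t2 * (s * q * s) = s * q * (s * L.t2 * s) * q * s := by group
      _ = s * (q * (L.t2 * T.F.a k) * q) * s := by rw [ht]; group
      _ = s * (L.t2 * T.F.a k) * s := by rw [(qt.mul_right qk).eq, mul_assoc (L.t2 * T.F.a k), qq, mul_one]
      _ = (s * L.t2 * s) * (s * T.F.a k * s) := by
          symm
          calc _ = s * L.t2 * (s * s) * T.F.a k * s := by group
            _ = _ := by rw [ss]; group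
      _ = L.t2 := by rw [ht, sk, mul_assoc, T.F.code_mul, vadd_self, T.F.code_zero, mul_one]
  rw [br, e1] at e2
  rw [e2] at ht
  show L.t2 * s = s * L.t2
  calc L.t2 * s = (s * L.t2 * s) * s := by rw [ht]
    _ = s * L.t2 * (s * s) := by group
    _ = s * L.t2 := by rw [ss, mul_one]

theorem braid : (T.F.ι cS * L.f1) ^ 3 = 1 := by
  obtain ⟨s, hs⟩ : ∃ s, s = T.F.ι cS := ⟨_, rfl⟩
  rw [← hs]
  have ss : s * s = 1 := hs ▸ Lift.ι_sq cS_sq
  have si : s⁻¹ = s := inv_eq_of_mul_eq_one_right ss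
  have s5 : s * T.F.a 5 * s = T.F.a 5 := hs ▸ Lift.conj_a (by decide +kernel)
  have sP : s * T.F.ι cP * s = T.F.a 10 := by
    rw [hs, ← map_mul, ← map_mul]; exact congrArg T.F.ι (by decide +kernel)
  have s10 : s * T.F.a 10 * s = T.F.ι cP := by
    rw [hs, Frame.a, ← map_mul, ← map_mul]; exact congrArg T.F.ι (by decide +kernel)
  have s16 : s * T.F.a 16 * s = T.F.a 16 := hs ▸ Lift.conj_a (by decide +kernel)
  have f5 : L.f1 * T.F.a 5 * L.f1 = T.F.a 10 := (L.f1_act 5).trans (congrArg _ (by decide +kernel))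
  have f10 : L.f1 * T.F.a 10 * L.f1 = T.F.a 5 := (L.f1_act 10).trans (congrArg _ (by decide +kernel))
  have f16 : L.f1 * T.F.a 16 * L.f1 = T.F.a 16 := (L.f1_act 16).trans (congrArg _ (by decide +kernel))
  have fP : L.f1 * T.F.ι cP * L.f1 = T.F.ι cP := by rw [L.f1_P.eq, mul_assoc, L.f1_sq, mul_one]
  obtain ⟨m, hm⟩ : ∃ m, m = s * L.f1 := ⟨_, rfl⟩
  rw [← hm]
  have mc : ∀ r r' r'', L.f1 * r * L.f1 = r' → s * r' * s = r'' → m * r * m⁻¹ = r'' := by
    intro r r' r'' h1 h2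
    rw [← h2, ← h1, hm, mul_inv_rev, si, L.f1_inv]; group
  have m5 := mc _ _ _ f5 s10
  have mP := mc _ _ _ fP sP
  have m10 := mc _ _ _ f10 s5
  have m16 := mc _ _ _ f16 s16
  have cyc : ∀ a b c : G, m * a * m⁻¹ = b → m * b * m⁻¹ = c → m * c * m⁻¹ = a → Commute (m ^ 3) a := by
    intro a b c h1 h2 h3
    refine mul_inv_eq_iff_eq_mul.1 ?_
    calc m ^ 3 * a * (m ^ 3)⁻¹ = m * (m * (m * a * m⁻¹) * m⁻¹) * m⁻¹ := by rw [pow_succ, pow_two]; group
      _ = a := by rw [h1, h2, h3]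
  obtain ⟨j, k, hk, e⟩ := T.cent_R (c := m ^ 3) (cyc _ _ _ m5 mP m10) (cyc _ _ _ m10 m5 mP)
    (cyc _ _ _ mP m10 m5) (cyc _ _ _ m16 m16 m16)
  obtain ⟨h5, h10⟩ := T.t2_R L
  have mt2 : Commute m L.t2 := hm ▸ (hs ▸ (T.t2_S L).symm).mul_left L.f1_t2
  have hk0 : k = 0 := by
    have c1 : Commute (T.F.ι (regEl j) * T.F.a k) L.t2 := e ▸ mt2.pow_left 3
    have c2 : Commute (T.F.ι (regEl j)) L.t2 := (T.R_comm j h5 h10 L.P_t2.symm).symm
    have c3 : Commute (T.F.a k) L.t2 := by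
      have := c2.inv_left.mul_left c1
      rwa [inv_mul_cancel_left] at this
    have h := L.t2_act k
    rw [c3.symm.eq, mul_inv_cancel_right] at h
    have key : ∀ k : Fin 64, k.1 % 16 = 0 → k = rot2 k → k = 0 := by decide +kernel
    exact key k hk (T.F.code_injective h)
  rw [hk0, T.F.code_zero, mul_one] at e
  -- the cube is fixed by the element of order three on the regular group
  have hj : j = 0 ∨ j = 7 := by
    have hmr : ∀ i, m * T.F.ι (regEl i) * m⁻¹ = T.F.ι (regEl (([0, 4, 1, 5, 2, 6, 3, 7] : List (Fin 8)).getD i.1 0)) := by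
      intro i
      have key : ∀ i : Fin 8,
          regEl i = (if i.1 % 2 = 1 then aC 5 else 1) * (if i.1 / 2 % 2 = 1 then aC 10 else 1) *
            (if i.1 / 4 = 1 then cP else 1) ∧
          regEl (([0, 4, 1, 5, 2, 6, 3, 7] : List (Fin 8)).getD i.1 0) =
            (if i.1 % 2 = 1 then cP else 1) * (if i.1 / 2 % 2 = 1 then aC 5 else 1) *
              (if i.1 / 4 = 1 then aC 10 else 1) := by decide +kernel
      have one : ∀ (P : Prop) [Decidable P] (x y : ↥C₀), m * T.F.ι x * m⁻¹ = T.F.ι y →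
          m * T.F.ι (if P then x else 1) * m⁻¹ = T.F.ι (if P then y else 1) := by
        intro P _ x y h
        by_cases hP : P
        · rw [if_pos hP, if_pos hP, h]
        · rw [if_neg hP, if_neg hP, map_one, mul_one, mul_inv_cancel]
      obtain ⟨k1, k2⟩ := key i
      rw [k1, k2, map_mul, map_mul, map_mul, map_mul]
      have hmu : ∀ x y z : G, m * (x * y * z) * m⁻¹ = (m * x * m⁻¹) * (m * y * m⁻¹) * (m * z * m⁻¹) :=
        fun x y z => by group
      rw [hmu, one _ (aC 5) cP m5, one _ (aC 10) (aC 5) m10, one _ cP (aC 10) mP]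
    have h := hmr j
    rw [← e] at h
    rw [show m * m ^ 3 * m⁻¹ = m ^ 3 by group, e] at h
    have key : ∀ j : Fin 8, regEl j = regEl (([0, 4, 1, 5, 2, 6, 3, 7] : List (Fin 8)).getD j.1 0) → j = 0 ∨ j = 7 := by
      decide +kernel
    exact key j (T.F.inj h)
  rcases hj with rfl | rfl
  · rw [e, show regEl 0 = 1 from by decide +kernel, map_one]
  · exfalso
    obtain ⟨ρ, hρ⟩ : ∃ ρ, ρ = T.F.ι (regEl 7) := ⟨_, rfl⟩
    rw [← hρ] at e
    have ρ2 : ρ * ρ = 1 := by rw [hρ, ← map_mul, regEl_facts.1, map_one]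
    have ρ7 : ρ = T.F.a 15 * T.F.ι cP := by rw [hρ, Frame.a, ← map_mul]; exact congrArg T.F.ι (by decide +kernel)
    have fρ : Commute L.f1 ρ := by
      rw [ρ7]
      refine Commute.mul_right ?_ L.f1_P
      have h15 := (L.f1_act 15).trans (congrArg _ (show _ = (15 : Fin 64) by decide +kernel))
      calc L.f1 * T.F.a 15 = L.f1 * T.F.a 15 * (L.f1 * L.f1) := by rw [L.f1_sq, mul_one]
        _ = _ := by rw [← mul_assoc, h15]
    have mρ : Commute m ρ := by rw [← e]; exact (Commute.refl m).pow_right 3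
    obtain ⟨F', hF'⟩ : ∃ F', F' = L.f1 * ρ := ⟨_, rfl⟩
    have FF : F' * F' = 1 := by
      rw [hF', show L.f1 * ρ * (L.f1 * ρ) = L.f1 * (ρ * L.f1) * ρ by group, ← fρ.eq]
      rw [← mul_assoc, L.f1_sq, one_mul, ρ2]
    have h3 : (s * F') ^ 3 = 1 := by
      rw [show s * F' = m * ρ by rw [hF', hm, mul_assoc], mρ.mul_pow, e, pow_succ, pow_two, ρ2, one_mul, ρ2]
    have hcj : IsConj (T.F.ι cS) F' := by
      refine isConj_iff.2 ⟨s * F', ?_⟩
      rw [← hs, mul_inv_rev, si, inv_eq_of_mul_eq_one_right FF]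
      have h' : s * F' * (s * F') * (s * F') = 1 := by rw [← pow_two, ← pow_succ, h3]
      calc s * F' * s * (F' * s) = (s * F' * (s * F') * (s * F')) * F' := by
            rw [show s * F' * (s * F') * (s * F') * F' = s * F' * s * F' * s * (F' * F') by group, FF]; group
        _ = F' := by rw [h', one_mul]
    have hcj2 : IsConj F' (T.F.ι (cHW * (aC 5 * cP))) := by
      refine isConj_iff.2 ⟨(L.t * L.t1)⁻¹, ?_⟩
      have i15 : (L.t * L.t1)⁻¹ * T.F.a 15 * (L.t * L.t1) = T.F.a 5 := by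
        calc (L.t * L.t1)⁻¹ * T.F.a 15 * (L.t * L.t1) = L.t1⁻¹ * (L.t⁻¹ * T.F.a 15 * L.t) * L.t1 := by group
          _ = _ := by rw [L.act_inv, L.t1_act_inv]; exact congrArg _ (by decide +kernel)
      rw [inv_inv, hF', ρ7, Lift.f1, map_mul, map_mul, ← show T.F.a 5 = T.F.ι (aC 5) from rfl, ← i15]
      calc (L.t * L.t1)⁻¹ * (L.t * L.t1 * T.F.ι cHW * (L.t * L.t1)⁻¹ * (T.F.a 15 * T.F.ι cP)) * (L.t * L.t1)
          = T.F.ι cHW * ((L.t * L.t1)⁻¹ * T.F.a 15 * (T.F.ι cP * (L.t * L.t1))) := by group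
        _ = _ := by rw [← L.a_P.eq]; group
    have := T.support_eq cS_sq (by decide +kernel) (hcj.trans hcj2)
    exact absurd this (by decide +kernel)

theorem braid' : (T.F.ι cS * L.f2) ^ 3 = 1 := by
  have e : T.F.ι cS = T.F.ι cG * T.F.ι cS * (T.F.ι cG)⁻¹ := by
    rw [Lift.ι_inv cG_sq, ← map_mul, ← map_mul]; exact congrArg T.F.ι (by decide +kernel)
  calc (T.F.ι cS * L.f2) ^ 3 = (T.F.ι cG * (T.F.ι cS * L.f1) * (T.F.ι cG)⁻¹) ^ 3 := by
        congr 1
        conv_lhs => rw [e]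
        rw [Lift.f2, Lift.ι_inv cG_sq]
        calc T.F.ι cG * T.F.ι cS * T.F.ι cG * (T.F.ι cG * L.f1 * T.F.ι cG)
            = T.F.ι cG * T.F.ι cS * (T.F.ι cG * T.F.ι cG) * L.f1 * T.F.ι cG := by group
          _ = _ := by rw [Lift.ι_sq cG_sq]; group
    _ = 1 := by rw [conj_pow, T.braid L]; group

end Twenty

end CfsgLib.Alt12Inv
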