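import Cfsg.Agent.Alt12Inv.Twenty.Braid
import Cfsg.Agent.Alt12Inv.Eight.Check

/-!
The relations between the lifts on eight points: two Carmichael relations.
-/

set_option autoImplicit false
set_option maxRecDepth 100000
set_option linter.style.haveILetI false
set_option maxHeartbeats 1000000

namespace CfsgLib.Alt12Inv

open Equiv CfsgLib.Coset

universe u

/-- The three-cycle `(0 1 2)`. -/
def pT : Perm (Fin 12) := swap 0 1 * swap 1 2

/-- The three-cycle `(4 5 6)`. -/
def pU : Perm (Fin 12) := swap 4 5 * swap 5 6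

/-- The six letters in the centralizer. -/
def cLetters : List ↥C₀ := [aC 1, aC 2, cS, aC 8, cHW, cP]

/-- The twelve permutations. -/
def pLetters : List (Perm (Fin 12)) :=
  [aEl 1, aEl 2, pS, aEl 8, pW, pP, pT, pT⁻¹, pU, pU⁻¹, pT * pU * pW * (pT * pU)⁻¹,
    pG * (pT * pU * pW * (pT * pU)⁻¹) * pG]

/-- The point moved by a letter. -/
def moveP (l : Nat) (p : Fin 12) : Fin 12 := pLetters.getD l 1 p

/-- The image of a point under a node representative. -/
noncomputable def imgAux (E : Nat → Nat) : Nat → Nat → Fin 12 → Fin 12 :=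
  fun s => Nat.rec (fun _ p => p)
    (fun _ ih i p => cond (Nat.beq i 0) p (ih (eb (E i)) (moveP (ex (E i)) p))) s

namespace Lift

variable {G : Type u} [Group G] {α : G} {F : Frame α} (L : Lift F)

/-- The twelve pairs. -/
def pairs : List (G × Perm (Fin 12)) :=
  [(F.ι (aC 1), aEl 1), (F.ι (aC 2), aEl 2), (F.ι cS, pS), (F.ι (aC 8), aEl 8), (F.ι cHW, pW), (F.ι cP, pP),
    (L.t, pT), (L.t⁻¹, pT⁻¹), (L.t1, pU), (L.t1⁻¹, pU⁻¹), (L.f1, pT * pU * pW * (pT * pU)⁻¹),
    (L.f2, pG * (pT * pU * pW * (pT * pU)⁻¹) * pG)]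

theorem pairs_length : L.pairs.length = 12 := rfl

theorem rp_snd (i : Nat) : ∀ s p, (rpAux L.pairs Eight.E s i).2 p = imgAux Eight.E s i p := by
  intro s
  induction s generalizing i with
  | zero => intro p; rfl
  | succ s ih =>
    intro p
    show (if i = 0 then (1 : G × Perm (Fin 12)) else _).2 p = cond (Nat.beq i 0) p _
    by_cases hi : i = 0
    · subst hi; rfl
    · rw [if_neg hi, show Nat.beq i 0 = false from by
        cases h : Nat.beq i 0
        · rfl
        · exact absurd (Nat.eq_of_beq_eq_true h) hi, cond_false, Prod.snd_mul, Perm.mul_apply, ih]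
      congr 1
      have key : ∀ l, (fl L.pairs l).2 p = moveP l p := by
        intro l
        rcases lt_or_ge l 12 with h | h
        · interval_cases l <;> rfl
        · rw [fl_of_le L.pairs h, moveP, List.getD_eq_default pLetters _ (show pLetters.length ≤ l from h)]; rfl
      exact key _

theorem ev_pairs_low : ∀ w : List Nat, (∀ l ∈ w, l < 6) →
    ev L.pairs w = (F.ι (ev cLetters w), ((ev cLetters w : ↥C₀) : Perm (Fin 12))) := by
  intro w
  induction w with
  | nil => intro _; simp [Prod.ext_iff]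
  | cons l w ih =>
    intro h
    rw [ev_cons, ev_cons, ih (fun x hx => h x (by simp [hx])), map_mul, Subgroup.coe_mul]
    have hl := h l (by simp)
    interval_cases l <;> rfl

theorem reps_outside : ∀ i, i < 105 → i ≠ 0 →
    ∃ p, imgAux Eight.E (Eight.Rep i) (Eight.Rep i) (t₀ p) ≠ t₀ (imgAux Eight.E (Eight.Rep i) (Eight.Rep i) p) := by
  decide +kernel

end Lift

theorem crels_ok : ∀ w ∈ (Eight.rels.drop 30).take 21, (∀ l ∈ w, l < 6) ∧ ev cLetters w = 1 := by
  decide +kernel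

theorem mixed_perm : ∀ w ∈ Eight.rels.take 30 ++ Eight.rels.drop 51, ∀ p, (w.map fun l => pLetters.getD l 1).prod p = p := by
  decide +kernel

namespace Twenty

variable {G : Type u} [Group G] {α : G} (T : Twenty α) (L : Lift T.F)

theorem mixed_fst : ∀ w ∈ Eight.rels.take 30 ++ Eight.rels.drop 51,
    (w.map fun l => ([T.F.ι (aC 1), T.F.ι (aC 2), T.F.ι cS, T.F.ι (aC 8), T.F.ι cHW, T.F.ι cP, L.t, L.t⁻¹, L.t1,
      L.t1⁻¹, L.f1, L.f2] : List G).getD l 1).prod = 1 := by
  have q : ∀ x : ↥C₀, x * x = 1 → T.F.ι x * T.F.ι x = 1 := fun x h => Lift.ι_sq h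
  have c3 : L.t * L.t * L.t = 1 := by rw [← pow_two, ← pow_succ, L.cube]
  have u3 : L.t1 * L.t1 * L.t1 = 1 := by rw [← pow_two, ← pow_succ, L.t1_cube]
  have w2 : T.F.ι cHW * T.F.ι cHW = 1 := q _ cHW_sq
  have P2 : T.F.ι cP * T.F.ι cP = 1 := q _ cP_sq
  have f22 : L.f2 * L.f2 = 1 := by
    calc L.f2 * L.f2 = T.F.ι cG * L.f1 * (T.F.ι cG * T.F.ι cG) * L.f1 * T.F.ι cG := by rw [Lift.f2]; group
      _ = _ := by rw [q _ cG_sq, mul_one, mul_assoc (T.F.ι cG), L.f1_sq, mul_one, q _ cG_sq]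
  intro w hw
  simp only [Eight.rels, List.take_succ_cons, List.take_zero, List.drop_succ_cons, List.drop_zero, List.cons_append,
    List.nil_append, List.mem_cons, List.not_mem_nil, or_false] at hw
  rcases hw with rfl | rfl | rfl | rfl | rfl | rfl | rfl | rfl | rfl | rfl | rfl | rfl | rfl | rfl | rfl | rfl |
    rfl | rfl | rfl | rfl | rfl | rfl | rfl | rfl | rfl | rfl | rfl | rfl | rfl | rfl | rfl | rfl | rfl <;>
    simp only [List.map_cons, List.map_nil, List.prod_cons, List.prod_nil, List.getD_cons_zero,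
      List.getD_cons_succ, mul_one, mul_inv_cancel, inv_mul_cancel]
  · exact q _ (aC_sq _)
  · exact q _ (aC_sq _)
  · exact q _ cS_sq
  · exact q _ (aC_sq _)
  · exact w2
  · exact P2
  · exact L.f1_sq
  · exact f22
  · rw [← mul_assoc]; exact c3
  · rw [← mul_assoc]; exact u3
  · have h : L.t * L.t1 = L.t1 * L.t := L.comm.eq
    calc L.t * (L.t1 * (L.t⁻¹ * L.t1⁻¹)) = (L.t * L.t1) * L.t⁻¹ * L.t1⁻¹ := by group
      _ = 1 := by rw [h]; group
  · calc L.t * (T.F.ι (aC 8) * (L.t⁻¹ * T.F.ι (aC 8))) = (L.t * T.F.a 8 * L.t⁻¹) * T.F.a 8 := by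
          simp only [Frame.a]; group
      _ = _ := by rw [L.act, show rotCode 8 = 8 from by decide +kernel, T.F.code_mul, vadd_self, T.F.code_zero]
  · calc L.t1 * (T.F.ι (aC 2) * (L.t1⁻¹ * T.F.ι (aC 2))) = (L.t1 * T.F.a 2 * L.t1⁻¹) * T.F.a 2 := by
          simp only [Frame.a]; group
      _ = _ := by rw [L.t1_act, show rot1 2 = 2 from by decide +kernel, T.F.code_mul, vadd_self, T.F.code_zero]
  · calc L.t1 * (T.F.ι (aC 1) * (L.t1⁻¹ * T.F.ι (aC 1))) = (L.t1 * T.F.a 1 * L.t1⁻¹) * T.F.a 1 := by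
          simp only [Frame.a]; group
      _ = _ := by rw [L.t1_act, show rot1 1 = 1 from by decide +kernel, T.F.code_mul, vadd_self, T.F.code_zero]
  · calc L.t * (T.F.ι (aC 2) * (L.t⁻¹ * T.F.ι (aC 1))) = (L.t * T.F.a 2 * L.t⁻¹) * T.F.a 1 := by
          simp only [Frame.a]; group
      _ = _ := by rw [L.act, show rotCode 2 = 1 from by decide +kernel, T.F.code_mul, vadd_self, T.F.code_zero]
  · calc L.t * (T.F.ι (aC 1) * (L.t⁻¹ * (T.F.ι (aC 2) * T.F.ι (aC 1))))
        = (L.t * T.F.a 1 * L.t⁻¹) * T.F.a 2 * T.F.a 1 := by simp only [Frame.a]; group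
      _ = _ := by
        rw [L.act, T.F.code_mul, T.F.code_mul, show vadd (vadd (rotCode 1) 2) 1 = 0 from by decide +kernel, T.F.code_zero]
  · rw [← mul_assoc, ← mul_assoc, L.invW, inv_mul_cancel]
  · rw [← mul_assoc, ← mul_assoc, L.W_t1, inv_mul_cancel]
  · rw [← mul_assoc, ← mul_assoc, L.P_t, mul_inv_cancel]
  · rw [← mul_assoc, ← mul_assoc, L.P_t1, mul_inv_cancel]
  · calc L.t1 * (T.F.ι (aC 8) * (L.t1⁻¹ * (T.F.ι cP * (T.F.ι (aC 1) * T.F.ι cP))))
        = (L.t1 * T.F.a 8 * L.t1⁻¹) * (T.F.ι cP * T.F.a 1 * T.F.ι cP) := by simp only [Frame.a]; group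
      _ = _ := by
        rw [L.t1_act, Lift.conj_a (conj_P 1), T.F.code_mul, show vadd (rot1 8) (codeP 1) = 0 from by decide +kernel,
          T.F.code_zero]
  · rw [Lift.f1]
    calc _ = L.t * L.t1 * (T.F.ι cHW * T.F.ι cHW) * (L.t1⁻¹ * L.t⁻¹) := by group
      _ = 1 := by rw [w2]; group
  · rw [L.f2_eq]
    calc _ = L.t⁻¹ * L.t1 * (T.F.ι cHW * T.F.ι cHW) * L.t1⁻¹ * L.t := by group
      _ = 1 := by rw [w2]; group
  · have := T.braid L
    simpa [pow_succ, mul_assoc] using this
  · have := T.braid' L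
    simpa [pow_succ, mul_assoc] using this
  · exact L.f1_sq
  · exact f22
  · calc T.F.ι cP * (L.f1 * (T.F.ι cP * L.f1)) = T.F.ι cP * (L.f1 * T.F.ι cP) * L.f1 := by group
      _ = (T.F.ι cP * T.F.ι cP) * (L.f1 * L.f1) := by rw [L.f1_P.eq]; group
      _ = _ := by rw [P2, L.f1_sq, one_mul]

theorem eight_table :
    TableOK L.pairs ((T.F.ι.prod C₀.subtype).range) Eight.E Eight.iv 105 Eight.Rep Eight.Tb := by
  refine Eight.table L.pairs_length ?_ (fun w hw => ?_) ?_
  · have q : ∀ {x : ↥C₀}, x * x = 1 → ((T.F.ι x, (x : Perm (Fin 12))) : G × Perm (Fin 12))⁻¹ =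
        (T.F.ι x, (x : Perm (Fin 12))) := fun {x} h => inv_eq_of_mul_eq_one_right (by
      rw [Prod.mk_mul_mk, Lift.ι_sq h]
      exact Prod.ext rfl (congrArg Subtype.val h))
    intro l hl
    interval_cases l
    · exact (q (aC_sq 1)).symm
    · exact (q (aC_sq 2)).symm
    · exact (q cS_sq).symm
    · exact (q (aC_sq 8)).symm
    · exact (q cHW_sq).symm
    · exact (q cP_sq).symm
    · rfl
    · exact Prod.ext (inv_inv _).symm (inv_inv _).symm
    · rfl
    · exact Prod.ext (inv_inv _).symm (inv_inv _).symm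
    · refine (inv_eq_of_mul_eq_one_right (Prod.ext L.f1_sq ?_)).symm
      exact (by decide +kernel : ∀ p, (pLetters.getD 10 1 * pLetters.getD 10 1 : Perm (Fin 12)) p = p) |> Equiv.ext
    · refine (inv_eq_of_mul_eq_one_right (Prod.ext ?_ ?_)).symm
      · have h := T.mixed_fst L [11, 11] (by simp [Eight.rels])
        simp only [List.map_cons, List.map_nil, List.prod_cons, List.prod_nil, List.getD_cons_zero,
          List.getD_cons_succ, mul_one] at h
        exact h
      · exact (by decide +kernel : ∀ p, (pLetters.getD 11 1 * pLetters.getD 11 1 : Perm (Fin 12)) p = p) |> Equiv.ext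
  · have split : w ∈ Eight.rels.take 30 ++ Eight.rels.drop 51 ∨ w ∈ (Eight.rels.drop 30).take 21 := by
      rw [← List.take_append_drop 30 Eight.rels, List.mem_append] at hw
      rcases hw with h | h
      · exact Or.inl (List.mem_append_left _ h)
      · rw [← List.take_append_drop 21 (Eight.rels.drop 30), List.mem_append] at h
        rcases h with h | h
        · exact Or.inr h
        · exact Or.inl (List.mem_append_right _ (by rwa [List.drop_drop] at h))
    rcases split with h | h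
    · have hfl : ∀ l, fl L.pairs l =
          (([T.F.ι (aC 1), T.F.ι (aC 2), T.F.ι cS, T.F.ι (aC 8), T.F.ι cHW, T.F.ι cP, L.t, L.t⁻¹, L.t1,
            L.t1⁻¹, L.f1, L.f2] : List G).getD l 1, pLetters.getD l 1) := by
        intro l
        rcases lt_or_ge l 12 with hl | hl
        · interval_cases l <;> rfl
        · rw [fl_of_le L.pairs hl, List.getD_eq_default _ _ (by simpa using hl),
            List.getD_eq_default pLetters _ (show pLetters.length ≤ l from hl)]
          rfl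
      have hev : ∀ v : List Nat, ev L.pairs v =
          ((v.map fun l => ([T.F.ι (aC 1), T.F.ι (aC 2), T.F.ι cS, T.F.ι (aC 8), T.F.ι cHW, T.F.ι cP, L.t, L.t⁻¹,
            L.t1, L.t1⁻¹, L.f1, L.f2] : List G).getD l 1).prod, (v.map fun l => pLetters.getD l 1).prod) := by
        intro v
        induction v with
        | nil => rfl
        | cons l v ih => rw [ev_cons, ih, hfl, List.map_cons, List.map_cons, List.prod_cons, List.prod_cons]; rfl
      rw [hev, T.mixed_fst L w h]
      exact Prod.ext rfl (Equiv.ext (mixed_perm w h))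
    · obtain ⟨h6, h1⟩ := crels_ok w h
      rw [L.ev_pairs_low w h6, h1, map_one]; rfl
  · intro w hw
    have h6 : ∀ l ∈ w, l < 6 := by
      simp only [Eight.subs, List.mem_cons, List.not_mem_nil, or_false] at hw
      rcases hw with rfl | rfl | rfl | rfl | rfl | rfl <;> simp
    rw [L.ev_pairs_low w h6]
    exact ⟨_, rfl⟩

/-- The graph of the twelve pairs is a function. -/
theorem eight_fun {g : G × Perm (Fin 12)} (hg : g ∈ Subgroup.closure {x | x ∈ L.pairs}) (h : g.2 = 1) :
    g.1 = 1 := by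
  have ok := T.eight_table L
  obtain ⟨i, hi, x, hx⟩ := ok.cover (by norm_num) hg
  have hx2 : (x : Perm (Fin 12)) = g.2 * ((rp L.pairs Eight.E (Eight.Rep i)).2)⁻¹ := congrArg Prod.snd hx
  rw [h, one_mul] at hx2
  have hi0 : i = 0 := by
    by_contra hne
    obtain ⟨p, hp⟩ := Lift.reps_outside i hi hne
    have hs : ∀ p, (rp L.pairs Eight.E (Eight.Rep i)).2 p = imgAux Eight.E (Eight.Rep i) (Eight.Rep i) p :=
      L.rp_snd _ _
    have hc : (rp L.pairs Eight.E (Eight.Rep i)).2 ∈ C₀ := by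
      rw [show (rp L.pairs Eight.E (Eight.Rep i)).2 = ((x : Perm (Fin 12)))⁻¹ from by rw [hx2, inv_inv]]
      exact inv_mem x.2
    refine hp ?_
    rw [← hs, ← hs]
    exact congrArg (fun z : Perm (Fin 12) => z p) (mem_C₀.1 hc).2
  subst hi0
  rw [ok.zero, rp_zero, inv_one, mul_one] at hx
  rw [← hx] at h ⊢
  have : x = 1 := Subtype.ext h
  rw [this]
  exact map_one T.F.ι

/-- The two relations. -/
theorem carmichael_two :
    (L.t * (T.F.ι (cHW * aC 1) * L.t * T.F.ι (cHW * aC 1))) ^ 2 = 1 ∧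
      (L.t * (T.F.ι cS * L.t * T.F.ι cS)) ^ 2 = 1 := by
  have mem : ∀ x ∈ L.pairs, x ∈ Subgroup.closure {x | x ∈ L.pairs} := fun x hx => Subgroup.subset_closure hx
  have ht := mem (L.t, pT) (by simp [Lift.pairs])
  have hw := mem (T.F.ι cHW, pW) (by simp [Lift.pairs])
  have h1 := mem (T.F.ι (aC 1), aEl 1) (by simp [Lift.pairs])
  have hs := mem (T.F.ι cS, pS) (by simp [Lift.pairs])
  refine ⟨?_, ?_⟩
  · rw [map_mul]
    exact T.eight_fun L (g := ((L.t, pT) * (((T.F.ι cHW, pW) * (T.F.ι (aC 1), aEl 1)) * (L.t, pT) *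
        ((T.F.ι cHW, pW) * (T.F.ι (aC 1), aEl 1)))) ^ 2)
      (pow_mem (mul_mem ht (mul_mem (mul_mem (mul_mem hw h1) ht) (mul_mem hw h1))) 2)
      ((by decide +kernel : ∀ p, ((pT * (pW * aEl 1 * pT * (pW * aEl 1))) ^ 2 : Perm (Fin 12)) p = p) |> Equiv.ext)
  · exact T.eight_fun L (g := ((L.t, pT) * ((T.F.ι cS, pS) * (L.t, pT) * (T.F.ι cS, pS))) ^ 2)
      (pow_mem (mul_mem ht (mul_mem (mul_mem hs ht) hs)) 2)
      ((by decide +kernel : ∀ p, ((pT * (pS * pT * pS)) ^ 2 : Perm (Fin 12)) p = p) |> Equiv.ext)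

end Twenty

end CfsgLib.Alt12Inv
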