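import Cfsg.Agent.Alt12Inv.Twenty.Model
import Cfsg.Agent.CentFour.Main

/-!
The centralizer of the regular group modulo that group is alternating of degree four or five.
-/

set_option autoImplicit false
set_option maxRecDepth 100000
set_option linter.style.haveILetI false
set_option linter.unusedSectionVars false

namespace CfsgLib.Alt12Inv

open Equiv CfsgLib.BPres Subgroup

universe u

/-- Equality of permutations of five points is decided pointwise. -/
instance (priority := high) decEqFive (p q : Perm (Fin 5)) : Decidable (p = q) := decidable_of_iff _ Equiv.ext_iff.symm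

/-- The elements of cube one. -/
def cubesFive : List (Perm (Fin 5)) :=
  1 :: ((List.finRange 5).flatMap fun a => (List.finRange 5).flatMap fun b => (List.finRange 5).filterMap fun c =>
    if a < b ∧ a < c ∧ b ≠ c then some (swap a c * swap a b) else none)

theorem mem_cubesFive : ∀ p : Perm (Fin 5), p * p * p = 1 → p ∈ cubesFive := by decide +kernel

/-- The third generator fits the two given ones. -/
def FitFive (p q w : Perm (Fin 5)) : Prop := w ≠ p ∧ w ≠ q ∧ p * w * (p * w) = 1 ∧ q * w * (q * w) = 1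

instance (p q w : Perm (Fin 5)) : Decidable (FitFive p q w) := by unfold FitFive; infer_instance

theorem fitFive_exists : ∀ p ∈ cubesFive, ∀ q ∈ cubesFive, p * q * (p * q) = 1 → p * q ≠ 1 →
    ∃ w ∈ cubesFive, FitFive p q w ∧ w * w * w = 1 ∧ Perm.sign w = 1 := by decide +kernel

set_option synthInstance.maxSize 1024 in
theorem fitFive_unique : ∀ p ∈ cubesFive, ∀ q ∈ cubesFive, p * q * (p * q) = 1 → p * q ≠ 1 →
    ∀ w ∈ cubesFive, FitFive p q w → ∀ w' ∈ cubesFive, FitFive p q w' → w = w' := by decide +kernel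

theorem invol_conj_five {a b : ↥(alternatingGroup (Fin 5))} (ha : a * a = 1) (ha1 : a ≠ 1) (hb : b * b = 1)
    (hb1 : b ≠ 1) : IsConj a b := by
  have four : ∀ a : ↥(alternatingGroup (Fin 5)), a * a = 1 → a ≠ 1 → (a : Perm (Fin 5)).support.card = 4 := by
    intro a ha ha1
    have hle := Finset.card_le_univ (a : Perm (Fin 5)).support
    rw [Fintype.card_fin] at hle
    rcases invol_cases (by norm_num) (congrArg Subtype.val ha) a.2 (fun h => ha1 (Subtype.ext h)) with h | h | h <;>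
      have := h.2 <;> omega
  obtain ⟨k, hk, e⟩ := exists_conj_alt (congrArg Subtype.val ha) (congrArg Subtype.val hb)
    (fun h => ha1 (Subtype.ext h)) ((four a ha ha1).trans (four b hb hb1).symm)
  exact isConj_iff.2 ⟨⟨k, hk⟩, Subtype.ext e⟩

namespace Twenty

variable {G : Type u} [Group G] {α : G} (T : Twenty α)

/-- The regular group inside its centralizer. -/
def regIn : Subgroup ↥T.Lr where
  carrier := {x | ∃ j, (x : G) = T.F.ι (regEl j)}
  one_mem' := ⟨0, by rw [show regEl 0 = 1 from by decide +kernel, map_one]; rfl⟩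
  mul_mem' := by
    rintro x y ⟨i, hi⟩ ⟨j, hj⟩
    have key : ∀ i j, ∃ l, regEl i * regEl j = regEl l := by decide +kernel
    obtain ⟨l, hl⟩ := key i j
    exact ⟨l, by rw [Subgroup.coe_mul, hi, hj, ← map_mul, hl]⟩
  inv_mem' := by
    rintro x ⟨i, hi⟩
    exact ⟨i, by rw [Subgroup.coe_inv, hi, ← map_inv, inv_eq_of_mul_eq_one_right (regEl_facts.1 i)]⟩

theorem regEl_mem (j : Fin 8) : T.F.ι (regEl j) ∈ T.Lr := by
  obtain ⟨a, b, c⟩ := regEl_facts.2.1 j
  refine T.mem_Lr.2 ⟨?_, ?_, ?_⟩ <;> show _ * _ = _ * _ <;>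
    simp only [Frame.a, ← map_mul, a, b, c]

theorem regEl_central {c : G} (hc : c ∈ T.Lr) (j : Fin 8) : Commute c (T.F.ι (regEl j)) := by
  obtain ⟨a, b, d⟩ := T.mem_Lr.1 hc
  exact T.R_comm j a b d

instance regIn_normal : T.regIn.Normal := ⟨by
  rintro x ⟨j, hj⟩ g
  refine ⟨j, ?_⟩
  rw [Subgroup.coe_mul, Subgroup.coe_mul, Subgroup.coe_inv, hj, (T.regEl_central g.2 j).eq, mul_inv_cancel_right]⟩

theorem code_mem (k : Fin 64) (hk : k.1 % 16 = 0) : T.F.a k ∈ T.Lr := by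
  have key : ∀ k : Fin 64, k.1 % 16 = 0 → aC k * cP = cP * aC k := by decide +kernel
  refine T.mem_Lr.2 ⟨T.F.a_comm _ _, T.F.a_comm _ _, ?_⟩
  show T.F.ι _ * T.F.ι _ = T.F.ι _ * T.F.ι _
  rw [← map_mul, ← map_mul, key k hk]

theorem code_not_reg {k : Fin 64} (hk : k.1 % 16 = 0) {j : Fin 8} (h : T.F.a k = T.F.ι (regEl j)) : k = 0 := by
  have key : ∀ k : Fin 64, k.1 % 16 = 0 → ∀ j, aC k = regEl j → k = 0 := by decide +kernel
  exact key k hk j (T.F.inj h)

end Twenty

/-- The case of a large centralizer. -/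
structure Big {G : Type u} [Group G] {α : G} {T : Twenty α} {L : Lift T.F} (M : Model L) where
  /-- The embedding of the alternating group of degree five. -/
  ψ : ↥(alternatingGroup (Fin 5)) →* G
  inj : Function.Injective ψ
  mem : ∀ x, ψ x ∈ T.Lr
  t2 : ψ (cyc 0 1 2) = L.t2
  u2 : ψ (cyc 0 1 3) = (T.F.a 16 * L.t2 * T.F.a 16)⁻¹
  cover : ∀ c ∈ T.Lr, ∃ j x, c = T.F.ι (regEl j) * ψ x
  fix : ∀ c : G, (∀ d ∈ T.Lr, c * d * c⁻¹ ∈ T.Lr) → Commute c L.t2 → Commute c (T.F.a 16) →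
    ∀ x, Commute c (ψ x)

namespace Model

variable {G : Type u} [Group G] [Finite G] {α : G} {T : Twenty α} {L : Lift T.F} (M : Model L)

/-- The dichotomy. -/
theorem small_or_big : T.Lr ≤ M.φ.range ∨ Nonempty (Big M) := by
  classical
  by_cases hV : ∀ c ∈ T.Lr, ∃ j k, k.1 % 16 = 0 ∧ c * T.F.a 16 * c⁻¹ = T.F.ι (regEl j) * T.F.a k
  · exact Or.inl (M.Lr_le hV)
  refine Or.inr ?_
  obtain ⟨h5, h10⟩ := T.t2_R L
  have ht2 : L.t2 ∈ T.Lr := T.mem_Lr.2 ⟨h5, h10, L.P_t2.symm⟩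
  let N := T.regIn
  let π := QuotientGroup.mk' N
  have hπ : ∀ {a b : ↥T.Lr}, π a = π b → ∃ j, (b : G) = T.F.ι (regEl j) * a := fun {a b} h => by
    obtain ⟨j, hj⟩ : a⁻¹ * b ∈ N := QuotientGroup.eq.1 h
    refine ⟨j, ?_⟩
    rw [← (T.regEl_central a.2 j).eq, ← hj, Subgroup.coe_mul, Subgroup.coe_inv, mul_inv_cancel_left]
  have hπ1 : ∀ {a : ↥T.Lr}, π a = 1 ↔ ∃ j, (a : G) = T.F.ι (regEl j) := fun {a} => QuotientGroup.eq_one_iff a
  let v : Fin 64 → ↥T.Lr := fun k => if h : k.1 % 16 = 0 then ⟨T.F.a k, T.code_mem k h⟩ else 1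
  have vval : ∀ k : Fin 64, k.1 % 16 = 0 → (v k : G) = T.F.a k := fun k h => by simp [v, h]
  let t : ↥T.Lr := ⟨L.t2, ht2⟩
  have hrot : ∀ k : Fin 64, k.1 % 16 = 0 → (rot2 k).1 % 16 = 0 := by decide +kernel
  have vinj : ∀ k l : Fin 64, k.1 % 16 = 0 → l.1 % 16 = 0 → π (v k) = π (v l) → k = l := by
    intro k l hk hl h
    obtain ⟨j, hj⟩ := hπ h
    rw [vval k hk, vval l hl] at hj
    have key : ∀ k : Fin 64, k.1 % 16 = 0 → ∀ l : Fin 64, l.1 % 16 = 0 → ∀ j, aC l = regEl j * aC k → k = l := by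
      decide +kernel
    exact key k hk l hl j (T.F.inj (by rw [map_mul]; exact hj))
  have v0 : v 0 = 1 := Subtype.ext (by rw [vval 0 rfl, T.F.code_zero]; rfl)
  -- the centralizer of the involution
  have hcent : ∀ c : ↥T.Lr, π c * π (v 16) = π (v 16) * π c → ∃ k : Fin 64, k.1 % 16 = 0 ∧ π c = π (v k) := by
    intro c h
    obtain ⟨j, hj⟩ := hπ (a := v 16) (b := c * v 16 * c⁻¹) (by
      rw [map_mul π, map_mul π, map_inv π, h, mul_inv_cancel_right])
    rw [Subgroup.coe_mul, Subgroup.coe_mul, Subgroup.coe_inv, vval 16 rfl] at hj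
    obtain ⟨rfl, -⟩ := T.code_of_mem (k := 16) rfl (by decide) (k' := 16) rfl (isConj_iff.2 ⟨c, hj⟩)
    rw [show regEl 0 = 1 from by decide +kernel, map_one, one_mul] at hj
    obtain ⟨c5, c10, cP'⟩ := T.mem_Lr.1 c.2
    obtain ⟨j', k, hk, e⟩ := T.cent_R c5 c10 cP' (mul_inv_eq_iff_eq_mul.1 hj)
    refine ⟨k, hk, ?_⟩
    rw [show c = ⟨T.F.ι (regEl j'), T.regEl_mem j'⟩ * v k from Subtype.ext (by rw [Subgroup.coe_mul, vval k hk]; exact e),
      map_mul, (hπ1 (a := ⟨T.F.ι (regEl j'), T.regEl_mem j'⟩)).2 ⟨j', rfl⟩, one_mul]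
  have vcomm : ∀ k : Fin 64, k.1 % 16 = 0 → π (v k) * π (v 16) = π (v 16) * π (v k) := fun k hk => by
    rw [← map_mul, ← map_mul]
    exact congrArg π (Subtype.ext (by
      rw [Subgroup.coe_mul, Subgroup.coe_mul, vval k hk, vval 16 rfl]; exact T.F.a_comm _ _))
  have vsq : ∀ k : Fin 64, k.1 % 16 = 0 → π (v k) * π (v k) = 1 := fun k hk => by
    rw [← map_mul, ← map_one π]
    exact congrArg π (Subtype.ext (by
      rw [Subgroup.coe_mul, vval k hk, T.F.code_mul, vadd_self, T.F.code_zero]; rfl))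
  have hx1 : π (v 16) ≠ 1 := fun h => by
    have := vinj 16 0 rfl rfl (by rw [h, v0, map_one])
    exact absurd this (by decide)
  have hxo : orderOf (π (v 16)) = 2 := by
    refine orderOf_eq_prime ?_ hx1
    rw [pow_two, vsq 16 rfl]
  have hC4 : Nat.card (centralizer ({π (v 16)} : Set (↥T.Lr ⧸ N))) = 4 := by
    rw [← Nat.card_fin 4]
    let sh : Fin 4 → Fin 64 := fun i => ⟨16 * i.1, by omega⟩
    let g : Fin 4 → centralizer ({π (v 16)} : Set (↥T.Lr ⧸ N)) :=
      fun i => ⟨π (v (sh i)), mem_centralizer_singleton_iff.2 (vcomm _ (by simp [sh]))⟩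
    refine (Nat.card_congr (Equiv.ofBijective g ⟨fun i j h => ?_, fun ⟨q, hq⟩ => ?_⟩)).symm
    · have := congrArg Fin.val (vinj _ _ (by simp [sh]) (by simp [sh]) (congrArg Subtype.val h))
      simp only [sh] at this
      exact Fin.ext (by omega)
    · obtain ⟨c, rfl⟩ := QuotientGroup.mk'_surjective N q
      obtain ⟨k, hk, e⟩ := hcent c (mem_centralizer_singleton_iff.1 hq)
      refine ⟨⟨k.1 / 16, by omega⟩, Subtype.ext ?_⟩
      show π (v (sh ⟨k.1 / 16, _⟩)) = π c
      rw [e]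
      exact congrArg (fun k => π (v k)) (Fin.ext (show 16 * (k.1 / 16) = k.1 by omega))
  have hCe : ∀ q ∈ centralizer ({π (v 16)} : Set (↥T.Lr ⧸ N)), q ^ 2 = 1 := by
    intro q hq
    obtain ⟨c, rfl⟩ := QuotientGroup.mk'_surjective N q
    obtain ⟨k, hk, e⟩ := hcent c (mem_centralizer_singleton_iff.1 hq)
    rw [e, pow_two, vsq k hk]
  have tconj : ∀ k : Fin 64, k.1 % 16 = 0 → π t * π (v k) * (π t)⁻¹ = π (v (rot2 k)) := fun k hk => by
    rw [← map_inv, ← map_mul, ← map_mul]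
    exact congrArg π (Subtype.ext (by
      rw [Subgroup.coe_mul, Subgroup.coe_mul, Subgroup.coe_inv, vval k hk, vval _ (hrot k hk)]; exact L.t2_act k))
  have hnc : ¬ Cfsg.HasNormalPComplement 2 (↥T.Lr ⧸ N) := by
    rintro ⟨P, K, hKn, hK⟩
    haveI := hKn
    haveI : Fact (Nat.Prime 2) := ⟨Nat.prime_two⟩
    obtain ⟨n, hn⟩ := IsPGroup.iff_card.1 P.isPGroup'
    have hidx : K.index = 2 ^ n := by rw [Subgroup.IsComplement'.index_eq_card (Subgroup.IsComplement'.symm hK), hn]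
    have hKodd : ¬ 2 ∣ Nat.card K := by
      have e : (P : Subgroup (↥T.Lr ⧸ N)).index = Nat.card K := Subgroup.IsComplement'.index_eq_card hK
      exact e ▸ P.not_dvd_index
    have htK : π t ∈ K := by
      rw [← QuotientGroup.eq_one_iff (N := K)]
      have h2 : orderOf (π t : (↥T.Lr ⧸ N) ⧸ K) ∣ 2 ^ n := by
        rw [← hidx, Subgroup.index_eq_card]
        exact orderOf_dvd_natCard _
      have h3 : orderOf (π t : (↥T.Lr ⧸ N) ⧸ K) ∣ 3 := orderOf_dvd_of_pow_eq_one (by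
        rw [← QuotientGroup.mk_pow, ← map_pow, show t ^ 3 = 1 from Subtype.ext L.t2_cube, map_one]; rfl)
      exact orderOf_eq_one_iff.1 (Nat.eq_one_of_dvd_coprimes ((by norm_num : Nat.Coprime 2 3).pow_left n) h2 h3)
    have hd : π (v 16) * π (v (rot2 16)) ∈ K := by
      have h1 := mul_mem (hKn.conj_mem _ htK (π (v 16))) (inv_mem htK)
      rw [inv_eq_of_mul_eq_one_right (vsq 16 rfl)] at h1
      rwa [show π (v 16) * π t * π (v 16) * (π t)⁻¹ = π (v 16) * (π t * π (v 16) * (π t)⁻¹) by group,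
        tconj 16 rfl] at h1
    obtain ⟨l, hl, hl0, e⟩ : ∃ l : Fin 64, l.1 % 16 = 0 ∧ l ≠ 0 ∧ π (v 16) * π (v (rot2 16)) = π (v l) := by
      refine ⟨vadd 16 (rot2 16), by decide +kernel, by decide +kernel, ?_⟩
      rw [← map_mul]
      exact congrArg π (Subtype.ext (by
        rw [Subgroup.coe_mul, vval 16 rfl, vval _ (by decide +kernel), vval _ (by decide +kernel), T.F.code_mul]))
    rw [e] at hd
    refine hKodd ?_
    have hne : (⟨π (v l), hd⟩ : K) ≠ 1 := fun h => hl0 (vinj l 0 hl rfl (by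
      rw [v0, map_one]; exact congrArg Subtype.val h))
    have : orderOf (⟨π (v l), hd⟩ : K) = 2 :=
      orderOf_eq_prime (Subtype.ext (by rw [Subgroup.coe_pow, pow_two]; exact vsq l hl)) hne
    exact this ▸ orderOf_dvd_natCard _
  have hne : ∀ E : Subgroup (↥T.Lr ⧸ N), E.Normal → Cfsg.IsElementaryAbelian 2 E →
      Nat.card E ≠ 2 ∧ Nat.card E ≠ 4 := by
    intro E hEn hE
    haveI := hEn
    suffices h : ∀ k, Nat.card E = k → (k = 2 ∨ k = 4) → False from
      ⟨fun e => h 2 e (Or.inl rfl), fun e => h 4 e (Or.inr rfl)⟩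
    intro k hk hk'
    obtain ⟨e, he, he1, hec⟩ : ∃ e ∈ E, e ≠ 1 ∧ e * π (v 16) = π (v 16) * e := by
      have : Nontrivial E := Finite.one_lt_card_iff_nontrivial.1 (by omega)
      obtain ⟨⟨e, he⟩, hne⟩ := exists_ne (1 : E)
      have he1 : e ≠ 1 := fun h => hne (Subtype.ext h)
      have xx : (π (v 16))⁻¹ = π (v 16) := inv_eq_of_mul_eq_one_right (vsq 16 rfl)
      have hx := hEn.conj_mem e he (π (v 16))
      rw [xx] at hx
      by_cases h : π (v 16) * e * π (v 16) = e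
      · refine ⟨e, he, he1, ?_⟩
        calc e * π (v 16) = π (v 16) * e * π (v 16) * π (v 16) := by rw [h]
          _ = _ := by rw [mul_assoc (π (v 16) * e), vsq 16 rfl, mul_one]
      · have hcm : ∀ a ∈ E, ∀ b ∈ E, a * b = b * a := fun a ha b hb =>
          congrArg Subtype.val (hE.1.is_comm.comm ⟨a, ha⟩ ⟨b, hb⟩)
        have hsq : e * e = 1 := by rw [← pow_two]; exact hE.2 e he
        refine ⟨e * (π (v 16) * e * π (v 16)), mul_mem he hx, fun h1 => h ?_, ?_⟩
        · rw [← inv_eq_of_mul_eq_one_right h1, inv_eq_of_mul_eq_one_right hsq]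
        · calc e * (π (v 16) * e * π (v 16)) * π (v 16) = e * (π (v 16) * e) := by
                rw [mul_assoc e, mul_assoc (π (v 16) * e), vsq 16 rfl, mul_one]
            _ = π (v 16) * ((π (v 16) * e * π (v 16)) * e) := by
                rw [show π (v 16) * (π (v 16) * e * π (v 16) * e) = π (v 16) * π (v 16) * (e * (π (v 16) * e)) by group,
                  vsq 16 rfl, one_mul]
            _ = _ := by rw [← hcm e he _ hx]
    obtain ⟨c, rfl⟩ := QuotientGroup.mk'_surjective N e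
    obtain ⟨k₀, hk₀, e₀⟩ := hcent c hec
    have hk0 : k₀ ≠ 0 := fun h => he1 (by rw [e₀, h, v0, map_one])
    rw [e₀] at he
    have all : ∀ l : Fin 64, l.1 % 16 = 0 → π (v l) ∈ E := by
      have rotE : ∀ m : Fin 64, m.1 % 16 = 0 → π (v m) ∈ E → π (v (rot2 m)) ∈ E := fun m hm h =>
        tconj m hm ▸ hEn.conj_mem _ h (π t)
      intro l hl
      have key : ∀ k : Fin 64, k.1 % 16 = 0 → k ≠ 0 → ∀ l : Fin 64, l.1 % 16 = 0 →
          l = 0 ∨ l = k ∨ l = rot2 k ∨ l = rot2 (rot2 k) := by decide +kernel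
      rcases key k₀ hk₀ hk0 l hl with rfl | rfl | rfl | rfl
      · rw [v0, map_one]; exact one_mem _
      · exact he
      · exact rotE _ hk₀ he
      · exact rotE _ (hrot _ hk₀) (rotE _ hk₀ he)
    let sh : Fin 4 → E := fun i => ⟨π (v ⟨16 * i.1, by omega⟩), all _ (by simp)⟩
    have hsh : Function.Injective sh := fun i j h => by
      have := congrArg Fin.val (vinj _ _ (by simp) (by simp) (congrArg Subtype.val h))
      simp only at this
      exact Fin.ext (by omega)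
    have h4 := Nat.card_le_card_of_injective sh hsh
    rw [Nat.card_fin, hk] at h4
    have hk4 : k = 4 := by omega
    have hsur : Function.Surjective sh :=
      ((Nat.bijective_iff_injective_and_card sh).2 ⟨hsh, by rw [Nat.card_fin, hk, hk4]⟩).2
    refine hV fun c hc => ?_
    obtain ⟨i, hi⟩ := hsur ⟨_, hEn.conj_mem _ (all 16 rfl) (π ⟨c, hc⟩)⟩
    have hi' : π (v ⟨16 * i.1, by omega⟩) = π ⟨c, hc⟩ * π (v 16) * (π ⟨c, hc⟩)⁻¹ := congrArg Subtype.val hi
    rw [← map_inv, ← map_mul, ← map_mul] at hi'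
    obtain ⟨j, hj⟩ := hπ hi'
    rw [Subgroup.coe_mul, Subgroup.coe_mul, Subgroup.coe_inv, vval 16 rfl, vval _ (by simp)] at hj
    exact ⟨j, _, by simp, hj⟩
  obtain ⟨e⟩ := CfsgLib.CentFour.nonempty_iso hxo hC4 hCe hnc hne
  let f : ↥T.Lr →* ↥(alternatingGroup (Fin 5)) := e.toMonoidHom.comp π
  have fker : ∀ {a : ↥T.Lr}, f a = 1 ↔ ∃ j, (a : G) = T.F.ι (regEl j) := fun {a} => by
    rw [← hπ1]; exact e.map_eq_one_iff
  have fsurj : Function.Surjective f := e.surjective.comp (QuotientGroup.mk'_surjective N)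
  have invol_lift : ∀ y : ↥T.Lr, f y * f y = 1 → y * y = 1 := by
    intro y hy
    by_cases h1 : f y = 1
    · obtain ⟨j, hj⟩ := fker.1 h1
      exact Subtype.ext (by rw [Subgroup.coe_mul, hj, ← map_mul, regEl_facts.1, map_one]; rfl)
    · have hv1 : f (v 16) ≠ 1 := fun h => hx1 (e.map_eq_one_iff.1 h)
      have hv2 : f (v 16) * f (v 16) = 1 := by
        show e _ * e _ = 1
        rw [← map_mul, vsq 16 rfl, map_one]
      obtain ⟨k, hk⟩ := isConj_iff.1 (invol_conj_five hv2 hv1 hy h1)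
      obtain ⟨k', rfl⟩ := fsurj k
      obtain ⟨j, hj⟩ := (fker (a := (k' * v 16 * k'⁻¹)⁻¹ * y)).1 (by
        rw [map_mul, map_inv, map_mul, map_mul, map_inv, hk, inv_mul_cancel])
      obtain ⟨w, hw⟩ : ∃ w, w = k' * v 16 * k'⁻¹ := ⟨_, rfl⟩
      rw [← hw] at hj
      have hy' : y = w * ⟨T.F.ι (regEl j), T.regEl_mem j⟩ := by
        rw [show (⟨T.F.ι (regEl j), T.regEl_mem j⟩ : ↥T.Lr) = w⁻¹ * y from Subtype.ext hj.symm, mul_inv_cancel_left]
      have hc : Commute w ⟨T.F.ι (regEl j), T.regEl_mem j⟩ := Subtype.ext (T.regEl_central w.2 j).eq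
      have h16 : v 16 * v 16 = 1 := Subtype.ext (by
        rw [Subgroup.coe_mul, vval 16 rfl, T.F.code_mul, vadd_self, T.F.code_zero]; rfl)
      have hww : w * w = 1 := by
        rw [hw]
        calc k' * v 16 * k'⁻¹ * (k' * v 16 * k'⁻¹) = k' * (v 16 * v 16) * k'⁻¹ := by group
          _ = 1 := by rw [h16]; group
      rw [hy', hc.symm.mul_mul_mul_comm, hww, one_mul]
      exact Subtype.ext (by rw [Subgroup.coe_mul, ← map_mul, regEl_facts.1, map_one]; rfl)
  have cube_eq : ∀ a b : ↥T.Lr, a ^ 3 = 1 → b ^ 3 = 1 → f a = f b → a = b := by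
    intro a b ha hb hab
    obtain ⟨j, hj⟩ := (fker (a := a⁻¹ * b)).1 (by rw [map_mul, map_inv, hab, inv_mul_cancel])
    have hc : Commute a (a⁻¹ * b) := Subtype.ext (by
      show (a : G) * ((a⁻¹ * b : ↥T.Lr) : G) = ((a⁻¹ * b : ↥T.Lr) : G) * a
      rw [hj]; exact (T.regEl_central a.2 j).eq)
    have h2 : (a⁻¹ * b) * (a⁻¹ * b) = 1 := Subtype.ext (by
      rw [Subgroup.coe_mul, hj, ← map_mul, regEl_facts.1, map_one]; rfl)
    have h3 : (a⁻¹ * b) ^ 3 = 1 := by
      have := hc.mul_pow 3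
      rw [mul_inv_cancel_left, hb, ha, one_mul] at this
      exact this.symm
    rw [pow_succ, pow_two, h2, one_mul] at h3
    exact inv_mul_eq_one.1 h3
  -- three generators
  let u : ↥T.Lr := (v 16 * t * v 16)⁻¹
  have t3 : t ^ 3 = 1 := Subtype.ext L.t2_cube
  have v16i : (v 16)⁻¹ = v 16 := inv_eq_of_mul_eq_one_right (Subtype.ext (by
    rw [Subgroup.coe_mul, vval 16 rfl, T.F.code_mul, vadd_self, T.F.code_zero]; rfl))
  have u3 : u ^ 3 = 1 := by
    show ((v 16 * t * v 16)⁻¹) ^ 3 = 1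
    conv_lhs => arg 1; arg 1; arg 2; rw [← v16i]
    rw [inv_pow, conj_pow, t3]; group
  have htu : ∃ l : Fin 64, l.1 % 16 = 0 ∧ l ≠ 0 ∧ ((t * u : ↥T.Lr) : G) = T.F.a l := by
    refine ⟨vadd (rot2 16) 16, by decide +kernel, by decide +kernel, ?_⟩
    rw [← T.F.code_mul, ← L.t2_act]
    show (t * (v 16 * t * v 16)⁻¹ : ↥T.Lr).1 = _
    rw [mul_inv_rev, mul_inv_rev, v16i]
    simp only [Subgroup.coe_mul, Subgroup.coe_inv, vval 16 rfl, t]
    group
  have hsq : (f t : Perm (Fin 5)) * f u * ((f t : Perm (Fin 5)) * f u) = 1 ∧ (f t : Perm (Fin 5)) * f u ≠ 1 := by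
    obtain ⟨l, hl, hl0, e'⟩ := htu
    refine ⟨?_, fun h => hl0 ?_⟩
    · have : (t * u) * (t * u) = 1 := Subtype.ext (by
        rw [Subgroup.coe_mul, e', T.F.code_mul, vadd_self, T.F.code_zero]; rfl)
      have := congrArg f this
      rw [map_mul, map_mul, map_one] at this
      exact congrArg Subtype.val this
    · obtain ⟨j, hj⟩ := (fker (a := t * u)).1 (by rw [map_mul]; exact Subtype.ext h)
      exact T.code_not_reg hl (e'.symm.trans hj)
  have cube : ∀ a : ↥T.Lr, a ^ 3 = 1 → (f a : Perm (Fin 5)) ∈ cubesFive := fun a ha => by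
    refine mem_cubesFive _ ?_
    have := congrArg (fun z => ((f z : ↥(alternatingGroup (Fin 5))) : Perm (Fin 5))) ha
    simpa [pow_succ, pow_two, mul_assoc] using this
  obtain ⟨w, hwc, hfit, hw3, hws⟩ := fitFive_exists _ (cube t t3) _ (cube u u3) hsq.1 hsq.2
  obtain ⟨c₀, hc₀⟩ := fsurj ⟨w, Perm.mem_alternatingGroup.2 hws⟩
  have hc6 : c₀ ^ 6 = 1 := by
    obtain ⟨j, hj⟩ := (fker (a := c₀ ^ 3)).1 (by
      rw [map_pow, hc₀]; exact Subtype.ext (by rw [Subgroup.coe_pow, pow_succ, pow_two, hw3]; rfl))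
    rw [show 6 = 3 + 3 from rfl, pow_add]
    exact Subtype.ext (by rw [Subgroup.coe_mul, hj, ← map_mul, regEl_facts.1, map_one]; rfl)
  obtain ⟨z, hz⟩ : ∃ z, z = c₀ ^ 4 := ⟨_, rfl⟩
  have z3 : z ^ 3 = 1 := by rw [hz, ← pow_mul, show 4 * 3 = 6 + 6 from rfl, pow_add, hc6, one_mul]
  have fz : (f z : Perm (Fin 5)) = w := by
    rw [hz, map_pow, hc₀, Subgroup.coe_pow, pow_succ, pow_succ, pow_two, hw3, one_mul]
  obtain ⟨hwp, hwq, hpw, hqw⟩ := hfit
  have sym : ∀ {a b : ↥T.Lr}, (a * b) ^ 2 = 1 → (b * a) ^ 2 = 1 := fun {a b} h => by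
    calc (b * a) ^ 2 = a⁻¹ * (a * b) ^ 2 * a := by rw [pow_two, pow_two]; group
      _ = 1 := by rw [h]; group
  have sqlift : ∀ a b : ↥T.Lr, (f a : Perm (Fin 5)) * f b * ((f a : Perm (Fin 5)) * f b) = 1 →
      (a * b) ^ 2 = 1 := fun a b h => by
    rw [pow_two]
    refine invol_lift _ ?_
    rw [map_mul]
    exact Subtype.ext h
  have r23 := sqlift t u hsq.1
  have r24 := sqlift t z (by rw [fz]; exact hpw)
  have r34 := sqlift u z (by rw [fz]; exact hqw)
  let gens : Fin 5 → ↥T.Lr := ![1, 1, t, u, z]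
  obtain ⟨ψ₀, hψ⟩ := carmichael (α := Fin 5) (a := 0) (b := 1) (by decide) gens
    (fun i h0 h1 => by fin_cases i <;> first | exact absurd rfl h0 | exact absurd rfl h1 | exact t3 | exact u3 | exact z3)
    (fun i j hi0 hi1 hj0 hj1 hij => by
      fin_cases i <;> fin_cases j <;> first
        | exact absurd rfl hi0 | exact absurd rfl hi1 | exact absurd rfl hj0 | exact absurd rfl hj1
        | exact absurd rfl hij | exact r23 | exact sym r23 | exact r24 | exact sym r24 | exact r34 | exact sym r34)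
  haveI : IsSimpleGroup (alternatingGroup (Fin 5)) := alternatingGroup.isSimpleGroup (by simp)
  have finj : Function.Injective (f.comp ψ₀) := by
    rcases Subgroup.Normal.eq_bot_or_eq_top (inferInstance : (f.comp ψ₀).ker.Normal) with h | h
    · exact (MonoidHom.ker_eq_bot_iff _).1 h
    · exfalso
      refine hsq.2 ?_
      have h2 : f t = 1 := by
        have := MonoidHom.mem_ker.1 (h ▸ Subgroup.mem_top (cyc (0 : Fin 5) 1 2))
        rwa [MonoidHom.comp_apply, hψ 2 (by decide) (by decide)] at this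
      have h3 : f u = 1 := by
        have := MonoidHom.mem_ker.1 (h ▸ Subgroup.mem_top (cyc (0 : Fin 5) 1 3))
        rwa [MonoidHom.comp_apply, hψ 3 (by decide) (by decide)] at this
      rw [h2, h3]; rfl
  have fbij : Function.Bijective (f.comp ψ₀) := Finite.injective_iff_bijective.1 finj
  refine ⟨{
    ψ := T.Lr.subtype.comp ψ₀
    inj := T.Lr.subtype_injective.comp (Function.Injective.of_comp (f := f) finj)
    mem := fun x => (ψ₀ x).2
    t2 := congrArg Subtype.val (hψ 2 (by decide) (by decide))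
    u2 := ?_
    cover := fun c hc => ?_
    fix := fun c hLr hct hc16 x => ?_ }⟩
  · rw [MonoidHom.comp_apply, hψ 3 (by decide) (by decide)]
    show ((v 16 * t * v 16)⁻¹ : ↥T.Lr).1 = _
    rw [Subgroup.coe_inv, Subgroup.coe_mul, Subgroup.coe_mul, vval 16 rfl]
  · obtain ⟨x, hx⟩ := fbij.2 (f ⟨c, hc⟩)
    obtain ⟨j, hj⟩ := (fker (a := (ψ₀ x)⁻¹ * ⟨c, hc⟩)).1 (by
      rw [map_mul, map_inv]; rw [MonoidHom.comp_apply] at hx; rw [hx, inv_mul_cancel])
    refine ⟨j, x, ?_⟩
    show c = T.F.ι (regEl j) * (ψ₀ x : G)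
    rw [← (T.regEl_central (ψ₀ x).2 j).eq, ← hj]
    show c = (ψ₀ x : G) * (((ψ₀ x)⁻¹ * ⟨c, hc⟩ : ↥T.Lr) : G)
    rw [Subgroup.coe_mul, Subgroup.coe_inv, mul_inv_cancel_left]
  · let z' : ↥T.Lr := ⟨c * z * c⁻¹, hLr _ z.2⟩
    have z'3 : z' ^ 3 = 1 := Subtype.ext (by
      rw [Subgroup.coe_pow]
      show (c * (z : G) * c⁻¹) ^ 3 = 1
      rw [conj_pow, ← Subgroup.coe_pow, z3, Subgroup.coe_one]; group)
    have cu : Commute c (u : G) := by
      show Commute c ((v 16 * t * v 16)⁻¹ : ↥T.Lr).1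
      rw [Subgroup.coe_inv, Subgroup.coe_mul, Subgroup.coe_mul, vval 16 rfl]
      exact ((hc16.mul_right hct).mul_right hc16).inv_right
    have conjrel : ∀ a : ↥T.Lr, Commute c (a : G) → (a * z) ^ 2 = 1 → (a * z') ^ 2 = 1 := by
      intro a ha h
      refine Subtype.ext ?_
      rw [Subgroup.coe_pow, Subgroup.coe_mul]
      show ((a : G) * (c * z * c⁻¹)) ^ 2 = 1
      rw [show (a : G) * (c * z * c⁻¹) = c * ((a : G) * z) * c⁻¹ by
        rw [show c * ((a : G) * z) * c⁻¹ = c * (a : G) * z * c⁻¹ by group, ha.eq]; group]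
      rw [conj_pow, ← Subgroup.coe_mul, ← Subgroup.coe_pow, h, Subgroup.coe_one]; group
    have neq : ∀ a : ↥T.Lr, a ^ 3 = 1 → Commute c (a : G) → w ≠ (f a : Perm (Fin 5)) →
        (f z' : Perm (Fin 5)) ≠ f a := by
      intro a ha hca hw e'
      have e2 := cube_eq z' a z'3 ha (Subtype.ext e')
      have : z = a := Subtype.ext (by
        have e3 : c * (z : G) * c⁻¹ = a := congrArg Subtype.val e2
        calc (z : G) = c⁻¹ * (c * z * c⁻¹) * c := by group
          _ = a := by rw [e3, mul_assoc, ← hca.eq, inv_mul_cancel_left])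
      exact hw (by rw [← fz, this])
    have sqdown : ∀ a b : ↥T.Lr, (a * b) ^ 2 = 1 →
        (f a : Perm (Fin 5)) * f b * ((f a : Perm (Fin 5)) * f b) = 1 := fun a b h => by
      have := congrArg (fun y => ((f y : ↥(alternatingGroup (Fin 5))) : Perm (Fin 5))) h
      simpa [pow_two, mul_assoc] using this
    have hw' : (f z' : Perm (Fin 5)) = w := fitFive_unique _ (cube t t3) _ (cube u u3) hsq.1 hsq.2 _
      (cube z' z'3) ⟨neq t t3 hct hwp, neq u u3 cu hwq, sqdown _ _ (conjrel t hct r24),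
        sqdown _ _ (conjrel u cu r34)⟩ w hwc ⟨hwp, hwq, hpw, hqw⟩
    have cz : Commute c (z : G) := by
      have e2 := cube_eq z' z z'3 z3 (Subtype.ext (hw'.trans fz.symm))
      exact mul_inv_eq_iff_eq_mul.1 (congrArg Subtype.val e2)
    have e' : (MulAut.conj c).toMonoidHom.comp (T.Lr.subtype.comp ψ₀) = T.Lr.subtype.comp ψ₀ := by
      refine hom_ext_cyc (a := 0) (b := 1) (by decide) fun i hi0 hi1 => ?_
      show c * (ψ₀ (cyc 0 1 i) : G) * c⁻¹ = (ψ₀ (cyc 0 1 i) : G)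
      rw [hψ i hi0 hi1]
      refine mul_inv_eq_iff_eq_mul.2 ?_
      fin_cases i <;> first | exact absurd rfl hi0 | exact absurd rfl hi1 | exact hct.eq | exact cu.eq | exact cz.eq
    exact mul_inv_eq_iff_eq_mul.1 (DFunLike.congr_fun e' x)

end Model

end CfsgLib.Alt12Inv
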