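import Cfsg.Agent.Alt12Inv.Elems
import Mathlib.Tactic.Group

/-!
Lifts of the rotations of the three quadruples in the case where the fused class consists of the codes of
weight three.
-/

set_option autoImplicit false
set_option linter.style.haveILetI false

namespace CfsgLib.Alt12Inv

open Equiv

universe u

/-- The facts about fusion used in the case of twenty-seven fused codes. -/
structure Twenty {G : Type u} [Group G] (α : G) where
  /-- The coordinates. -/
  F : Frame α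
  fused : ∀ v, F.Fused v ↔ weight v = 3
  rot : ∃ n, ∀ v, n * F.a v * n⁻¹ = F.a (rotCode v)
  centA : ∀ g : G, (∀ v, Commute g (F.a v)) → ∃ v, g = F.a v
  into : ∀ x : ↥C₀, x * x = 1 → ∃ c v, c * x * c⁻¹ = aC v
  wt : ∀ v w, IsConj (F.a v) (F.a w) → weight v = weight w
  two : ∀ P : Subgroup G, IsPGroup 2 P → ∃ g, ∀ p ∈ P, Commute p (g * α * g⁻¹)

theorem card_support_aEl : ∀ v, (aEl v).support.card = 4 * weight v := by decide +kernel

theorem card_support_conj (c x : ↥C₀) :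
    ((c * x * c⁻¹ : ↥C₀) : Perm (Fin 12)).support.card = (x : Perm (Fin 12)).support.card := by
  show ((c : Perm (Fin 12)) * (x : Perm (Fin 12)) * (c : Perm (Fin 12))⁻¹).support.card = _
  exact Perm.card_support_conj

theorem rotCode_add : ∀ v w, rotCode (vadd v w) = vadd (rotCode v) (rotCode w) := by decide +kernel
theorem rotCode_three : ∀ v, rotCode (rotCode (rotCode v)) = v := by decide +kernel
theorem rot_norm : ∀ v, vadd (vadd v (rotCode v)) (rotCode (rotCode v)) = 0 → v.1 < 4 := by decide +kernel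

namespace Frame

variable {G : Type u} [Group G] {α : G} (F : Frame α)

theorem code_mul (v w : Fin 64) : F.a v * F.a w = F.a (vadd v w) := by
  rw [Frame.a, Frame.a, Frame.a, ← map_mul, aC_mul]

theorem code_zero : F.a 0 = 1 := by rw [Frame.a, aC_zero, map_one]

theorem code_injective : Function.Injective F.a := F.inj.comp aC_injective

theorem a_inv (v : Fin 64) : (F.a v)⁻¹ = F.a v :=
  inv_eq_of_mul_eq_one_right (by rw [code_mul, vadd_self, code_zero])

theorem a_comm (v w : Fin 64) : Commute (F.a v) (F.a w) := by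
  show F.a v * F.a w = F.a w * F.a v
  rw [code_mul, code_mul, vadd_comm]

theorem ι_conj (x : ↥C₀) (_hx : x * x = 1) (g : ↥C₀) : F.ι x * F.ι g * F.ι x = F.ι (x * g * x) := by
  rw [map_mul, map_mul]

end Frame

/-- The rotation lifts. -/
structure Lift {G : Type u} [Group G] {α : G} (F : Frame α) where
  /-- A lift of the rotation of the first quadruple. -/
  t : G
  cube : t ^ 3 = 1
  act : ∀ v, t * F.a v * t⁻¹ = F.a (rotCode v)
  fixF : Commute (F.ι cFlip) t
  fixX : Commute (F.ι cX) t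
  invW : F.ι cHW * t * F.ι cHW = t⁻¹
  comm : Commute t (F.ι cP * t * F.ι cP)

/-- The action of `(0 1)(4 5)` on codes. -/
def codeW (v : Fin 64) : Fin 64 :=
  ⟨([0, 1, 3, 2].getD (v.1 % 4) 0 + 4 * [0, 1, 3, 2].getD (v.1 / 4 % 4) 0 + 16 * (v.1 / 16)) % 64,
    Nat.mod_lt _ (by decide)⟩

/-- The action of the exchange of the first two quadruples on codes. -/
def codeP (v : Fin 64) : Fin 64 :=
  ⟨(v.1 / 4 % 4 + 4 * (v.1 % 4) + 16 * (v.1 / 16)) % 64, Nat.mod_lt _ (by decide)⟩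

theorem conj_W : ∀ v, cHW * aC v * cHW = aC (codeW v) := by decide +kernel
theorem conj_P : ∀ v, cP * aC v * cP = aC (codeP v) := by decide +kernel
theorem codeW_rot : ∀ v, codeW (rotCode (rotCode (codeW v))) = rotCode v := by decide +kernel
theorem codeW_codeW : ∀ v, codeW (codeW v) = v := by decide +kernel
theorem codeP_codeP : ∀ v, codeP (codeP v) = v := by decide +kernel
theorem rot_codeP : ∀ v, rotCode (codeP (rotCode (codeP v))) = codeP (rotCode (codeP (rotCode v))) := by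
  decide +kernel
theorem codeP_fixes : ∀ u : Fin 64, u.1 < 4 → rotCode (codeP u) = codeP u := by decide +kernel

theorem fact_shift : ∀ u : Fin 64, u.1 < 4 → rotCode (rotCode (codeW u)) = u →
    ∃ z : Fin 64, vadd (vadd (rotCode (rotCode (codeW z))) u) (codeW z) = vadd (rotCode (rotCode z)) z := by
  decide +kernel

namespace Twenty

variable {G : Type u} [Group G] {α : G} (T : Twenty α)

theorem support_eq {x y : ↥C₀} (hx : x * x = 1) (hy : y * y = 1) (h : IsConj (T.F.ι x) (T.F.ι y)) :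
    (x : Perm (Fin 12)).support.card = (y : Perm (Fin 12)).support.card := by
  obtain ⟨c, v, hv⟩ := T.into x hx
  obtain ⟨d, w, hw⟩ := T.into y hy
  have h1 : IsConj (T.F.a v) (T.F.ι x) :=
    (isConj_iff.2 ⟨T.F.ι c, by rw [Frame.a, ← hv, map_mul, map_mul, map_inv]⟩).symm
  have h2 : IsConj (T.F.ι y) (T.F.a w) :=
    isConj_iff.2 ⟨T.F.ι d, by rw [Frame.a, ← hw, map_mul, map_mul, map_inv]⟩
  have e := T.wt v w ((h1.trans h).trans h2)
  rw [← card_support_conj c x, hv, ← card_support_conj d y, hw]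
  show (aEl v).support.card = (aEl w).support.card
  rw [card_support_aEl, card_support_aEl, e]

/-- Two lifts differ by a translation of the first quadruple. -/
theorem lift_diff {t s : G} (ht : t ^ 3 = 1) (hta : ∀ v, t * T.F.a v * t⁻¹ = T.F.a (rotCode v))
    (hs : s ^ 3 = 1) (hsa : ∀ v, s * T.F.a v * s⁻¹ = T.F.a (rotCode v)) :
    ∃ u : Fin 64, u.1 < 4 ∧ s = t * T.F.a u := by
  obtain ⟨u, hu⟩ := T.centA (t⁻¹ * s) fun v => by
    show t⁻¹ * s * T.F.a v = T.F.a v * (t⁻¹ * s)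
    calc t⁻¹ * s * T.F.a v = t⁻¹ * (s * T.F.a v * s⁻¹) * s := by group
      _ = t⁻¹ * (t * T.F.a v * t⁻¹) * s := by rw [hsa, ← hta]
      _ = _ := by group
  have hs' : s = t * T.F.a u := by rw [← hu]; group
  refine ⟨u, rot_norm u ?_, hs'⟩
  apply T.F.code_injective
  rw [T.F.code_zero, ← T.F.code_mul, ← T.F.code_mul, ← hta u, ← hta (rotCode u), ← hta u]
  have e1 : t * t = t⁻¹ := eq_inv_of_mul_eq_one_left (by rw [← pow_two, ← pow_succ, ht])
  calc T.F.a u * (t * T.F.a u * t⁻¹) * (t * (t * T.F.a u * t⁻¹) * t⁻¹)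
      = T.F.a u * t * T.F.a u * t * T.F.a u * (t * t)⁻¹ := by group
    _ = T.F.a u * t * T.F.a u * t * T.F.a u * t := by rw [e1, inv_inv]
    _ = T.F.a u * ((t * T.F.a u) * (t * T.F.a u) * (t * T.F.a u)) * (T.F.a u)⁻¹ := by group
    _ = 1 := by rw [← pow_two, ← pow_succ, ← hs', hs, mul_one, mul_inv_cancel]

theorem exists_rot : ∃ t : G, t ^ 3 = 1 ∧ ∀ v, t * T.F.a v * t⁻¹ = T.F.a (rotCode v) := by
  obtain ⟨n, hn⟩ := T.rot
  have it : ∀ v, n ^ 3 * T.F.a v * (n ^ 3)⁻¹ = T.F.a v := fun v => by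
    calc n ^ 3 * T.F.a v * (n ^ 3)⁻¹ = n * (n * (n * T.F.a v * n⁻¹) * n⁻¹) * n⁻¹ := by
          rw [pow_succ, pow_two]; group
      _ = _ := by rw [hn, hn, hn, rotCode_three]
  obtain ⟨u, hu⟩ := T.centA (n ^ 3) fun v => mul_inv_eq_iff_eq_mul.1 (it v)
  have h6 : n ^ 6 = 1 := by rw [show 6 = 3 + 3 from rfl, pow_add, hu, T.F.code_mul, vadd_self, T.F.code_zero]
  refine ⟨n ^ 4, ?_, fun v => ?_⟩
  · rw [← pow_mul, show 4 * 3 = 6 + 6 from rfl, pow_add, h6, mul_one]
  · calc n ^ 4 * T.F.a v * (n ^ 4)⁻¹ = n ^ 3 * (n * T.F.a v * n⁻¹) * (n ^ 3)⁻¹ := by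
          rw [show 4 = 3 + 1 from rfl, pow_succ]; group
      _ = _ := by rw [hn, it]

/-- An involution of the centralizer away from the first quadruple commutes with every lift. -/
theorem fix_lift {t : G} (ht : t ^ 3 = 1) (hta : ∀ v, t * T.F.a v * t⁻¹ = T.F.a (rotCode v)) {x : ↥C₀}
    (hx : x * x = 1)
    (hact : ∀ v, ∃ v', x * aC v * x = aC v' ∧ x * aC (rotCode v) * x = aC (rotCode v'))
    (hsupp : ∀ u : Fin 64, u.1 < 4 → u ≠ 0 → aC u * x * (aC u * x) = 1 ∧
      (aC u * x : ↥C₀).1.support.card ≠ x.1.support.card) :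
    Commute (T.F.ι x) t := by
  have hxi : (T.F.ι x)⁻¹ = T.F.ι x := inv_eq_of_mul_eq_one_right (by rw [← map_mul, hx, map_one])
  obtain ⟨u, hu, e⟩ := T.lift_diff ht hta (s := T.F.ι x * t * (T.F.ι x)⁻¹) (by rw [conj_pow, ht]; group) fun v => by
    obtain ⟨v', h1, h2⟩ := hact v
    have e1 : (T.F.ι x)⁻¹ * T.F.a v * T.F.ι x = T.F.a v' := by
      rw [hxi, Frame.a, T.F.ι_conj x hx, h1]; rfl
    have h3 : x * aC (rotCode v') * x = aC (rotCode v) := by
      rw [← h2]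
      calc x * (x * aC (rotCode v) * x) * x = (x * x) * aC (rotCode v) * (x * x) := by group
        _ = _ := by rw [hx, one_mul, mul_one]
    calc T.F.ι x * t * (T.F.ι x)⁻¹ * T.F.a v * (T.F.ι x * t * (T.F.ι x)⁻¹)⁻¹
        = T.F.ι x * (t * ((T.F.ι x)⁻¹ * T.F.a v * T.F.ι x) * t⁻¹) * (T.F.ι x)⁻¹ := by group
      _ = T.F.ι x * T.F.a (rotCode v') * T.F.ι x := by rw [e1, hta, hxi]
      _ = T.F.a (rotCode v) := by rw [Frame.a, T.F.ι_conj x hx, h3]; rfl
  by_cases hu0 : u = 0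
  · subst hu0
    rw [T.F.code_zero, mul_one] at e
    exact mul_inv_eq_iff_eq_mul.1 e
  · exfalso
    obtain ⟨h1, h2⟩ := hsupp u hu hu0
    refine h2 (T.support_eq h1 hx (isConj_iff.2 ⟨t, ?_⟩))
    rw [map_mul, show T.F.ι (aC u) = T.F.a u from rfl]
    calc t * (T.F.a u * T.F.ι x) * t⁻¹ = (t * T.F.a u) * T.F.ι x * t⁻¹ := by group
      _ = T.F.ι x := by rw [← e]; group

theorem fact_F : (∀ v, ∃ v', cFlip * aC v * cFlip = aC v' ∧ cFlip * aC (rotCode v) * cFlip = aC (rotCode v')) ∧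
    (∀ u : Fin 64, u.1 < 4 → u ≠ 0 → aC u * cFlip * (aC u * cFlip) = 1 ∧
      (aC u * cFlip : ↥C₀).1.support.card ≠ cFlip.1.support.card) := by
  decide +kernel

theorem fact_X : (∀ v, ∃ v', cX * aC v * cX = aC v' ∧ cX * aC (rotCode v) * cX = aC (rotCode v')) ∧
    (∀ u : Fin 64, u.1 < 4 → u ≠ 0 → aC u * cX * (aC u * cX) = 1 ∧
      (aC u * cX : ↥C₀).1.support.card ≠ cX.1.support.card) := by
  decide +kernel

theorem exists_lift : Nonempty (Lift T.F) := by
  obtain ⟨t, ht, hta⟩ := T.exists_rot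
  obtain ⟨k, hk⟩ : ∃ k, k = T.F.ι cHW := ⟨_, rfl⟩
  obtain ⟨p, hp⟩ : ∃ p, p = T.F.ι cP := ⟨_, rfl⟩
  have kk : k * k = 1 := by rw [hk, ← map_mul, cHW_sq, map_one]
  have pp : p * p = 1 := by rw [hp, ← map_mul, cP_sq, map_one]
  have ki : k⁻¹ = k := inv_eq_of_mul_eq_one_right kk
  have pi : p⁻¹ = p := inv_eq_of_mul_eq_one_right pp
  have ka : ∀ v, k * T.F.a v * k = T.F.a (codeW v) := fun v => by
    rw [hk, Frame.a, T.F.ι_conj cHW cHW_sq, conj_W]; rfl
  have pa : ∀ v, p * T.F.a v * p = T.F.a (codeP v) := fun v => by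
    rw [hp, Frame.a, T.F.ι_conj cP cP_sq, conj_P]; rfl
  have hti : ∀ v, t⁻¹ * T.F.a v * t = T.F.a (rotCode (rotCode v)) := fun v => by
    conv_lhs => rw [← rotCode_three v, ← hta (rotCode (rotCode v))]
    group
  have aa : ∀ v, T.F.a v * T.F.a v = 1 := fun v => by rw [T.F.code_mul, vadd_self, T.F.code_zero]
  -- the image of the inverse
  obtain ⟨u, hu, hsu⟩ := T.lift_diff ht hta (s := k * t⁻¹ * k⁻¹) (by rw [conj_pow, inv_pow, ht]; group) fun v => by
    calc k * t⁻¹ * k⁻¹ * T.F.a v * (k * t⁻¹ * k⁻¹)⁻¹ = k * (t⁻¹ * (k⁻¹ * T.F.a v * k) * t) * k⁻¹ := by group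
      _ = _ := by rw [ki, ka, hti, ka, codeW_rot]
  rw [ki] at hsu
  have hu2 : rotCode (rotCode (codeW u)) = u := by
    apply T.F.code_injective
    have e1 : k * (t * T.F.a u) * k = t⁻¹ := by
      rw [← hsu]
      calc k * (k * t⁻¹ * k) * k = (k * k) * t⁻¹ * (k * k) := by group
        _ = _ := by rw [kk, one_mul, mul_one]
    have e2 : k * t * k = t⁻¹ * T.F.a (codeW u) := by
      rw [← e1, ← ka u]
      calc k * t * k = k * t * (T.F.a u * T.F.a u) * k := by rw [aa, mul_one]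
        _ = k * (t * T.F.a u) * (k * k) * T.F.a u * k := by rw [kk]; group
        _ = _ := by group
    have e3 : t * T.F.a u = T.F.a (codeW u) * t := by
      rw [← hsu]
      calc k * t⁻¹ * k = (k * t * k)⁻¹ := by simp only [mul_inv_rev, ki]; group
        _ = _ := by rw [e2, mul_inv_rev, inv_inv, T.F.a_inv]
    rw [← hti (codeW u)]
    calc t⁻¹ * T.F.a (codeW u) * t = t⁻¹ * (T.F.a (codeW u) * t) := by group
      _ = _ := by rw [← e3]; group
  obtain ⟨z, hz⟩ := fact_shift u hu hu2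
  obtain ⟨r, hr⟩ : ∃ r, r = T.F.a z * t * (T.F.a z)⁻¹ := ⟨_, rfl⟩
  have hr3 : r ^ 3 = 1 := by rw [hr, conj_pow, ht]; group
  have hra : ∀ v, r * T.F.a v * r⁻¹ = T.F.a (rotCode v) := fun v => by
    calc r * T.F.a v * r⁻¹ = T.F.a z * (t * ((T.F.a z)⁻¹ * T.F.a v * T.F.a z) * t⁻¹) * (T.F.a z)⁻¹ := by
          rw [hr]; group
      _ = _ := by
          rw [T.F.a_inv, (T.F.a_comm z v).eq, mul_assoc (T.F.a v), aa, mul_one, hta,
            (T.F.a_comm z _).eq, mul_assoc, aa, mul_one]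
  have hrW : k * r * k = r⁻¹ := by
    have e1 : k * r⁻¹ * k = t * T.F.a (vadd (vadd (rotCode (rotCode (codeW z))) u) (codeW z)) := by
      calc k * r⁻¹ * k = k * (T.F.a z * (k * k) * t⁻¹ * (k * k) * T.F.a z) * k := by
            rw [hr, kk, mul_inv_rev, mul_inv_rev, inv_inv, T.F.a_inv]; group
        _ = (k * T.F.a z * k) * (k * t⁻¹ * k) * (k * T.F.a z * k) := by group
        _ = t * (t⁻¹ * T.F.a (codeW z) * t) * T.F.a u * T.F.a (codeW z) := by rw [ka, hsu]; group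
        _ = _ := by rw [hti, ← T.F.code_mul, ← T.F.code_mul]; group
    have e2 : r = t * T.F.a (vadd (rotCode (rotCode z)) z) := by
      rw [hr, T.F.a_inv, ← T.F.code_mul, ← hti z]; group
    rw [hz, ← e2] at e1
    calc k * r * k = k * (k * r⁻¹ * k) * k := by rw [e1]
      _ = (k * k) * r⁻¹ * (k * k) := by group
      _ = r⁻¹ := by rw [kk, one_mul, mul_one]
  refine ⟨⟨r, hr3, hra, T.fix_lift hr3 hra cFlip_sq fact_F.1 fact_F.2,
    T.fix_lift hr3 hra cX_sq fact_X.1 fact_X.2, hk ▸ hrW, ?_⟩⟩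
  -- the lifts of two quadruples commute
  rw [← hp]
  obtain ⟨q, hq⟩ : ∃ q, q = p * r * p⁻¹ := ⟨_, rfl⟩
  rw [show p * r * p = q by rw [hq, pi]]
  have hq3 : q ^ 3 = 1 := by rw [hq, conj_pow, hr3]; group
  have hqa : ∀ v, q * T.F.a v * q⁻¹ = T.F.a (codeP (rotCode (codeP v))) := fun v => by
    calc q * T.F.a v * q⁻¹ = p * (r * (p⁻¹ * T.F.a v * p) * r⁻¹) * p⁻¹ := by rw [hq]; group
      _ = _ := by rw [pi, pa, hra, pa]
  obtain ⟨u', hu', e⟩ := T.lift_diff hr3 hra (s := q * r * q⁻¹) (by rw [conj_pow, hr3]; group) fun v => by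
    obtain ⟨y, hy⟩ : ∃ y, q * T.F.a y * q⁻¹ = T.F.a v :=
      ⟨codeP (rotCode (rotCode (codeP v))), by rw [hqa, codeP_codeP, rotCode_three, codeP_codeP]⟩
    have ev : v = codeP (rotCode (codeP y)) := T.F.code_injective (by rw [← hy, hqa])
    calc q * r * q⁻¹ * T.F.a v * (q * r * q⁻¹)⁻¹ = q * (r * (q⁻¹ * T.F.a v * q) * r⁻¹) * q⁻¹ := by group
      _ = q * (r * T.F.a y * r⁻¹) * q⁻¹ := by rw [← hy]; group
      _ = T.F.a (rotCode v) := by rw [hra, hqa, ← rot_codeP, ← ev]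
  have hfix : q * T.F.a u' * q⁻¹ = T.F.a u' := by rw [hqa, codeP_fixes u' hu', codeP_codeP]
  have e2 : q ^ 3 * r * (q ^ 3)⁻¹ = r * (T.F.a u' * T.F.a u' * T.F.a u') := by
    have step : ∀ x : G, q * x * q⁻¹ * (q * T.F.a u' * q⁻¹) = q * (x * T.F.a u') * q⁻¹ := fun x => by group
    calc q ^ 3 * r * (q ^ 3)⁻¹ = q * (q * (q * r * q⁻¹) * q⁻¹) * q⁻¹ := by rw [pow_succ, pow_two]; group
      _ = q * (r * T.F.a u' * T.F.a u') * q⁻¹ := by rw [e, ← step r, hfix, e]
      _ = r * T.F.a u' * T.F.a u' * T.F.a u' := by rw [← step (r * T.F.a u'), ← step r, hfix, e]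
      _ = _ := by group
  rw [hq3, one_mul, inv_one, mul_one, aa, one_mul] at e2
  have : T.F.a u' = 1 := mul_left_cancel (a := r) (by rw [← e2, mul_one])
  rw [this, mul_one] at e
  exact (mul_inv_eq_iff_eq_mul.1 e).symm

end Twenty

end CfsgLib.Alt12Inv
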