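import Cfsg.Agent.Alt12Inv.Twenty.Twelve
import Cfsg.Agent.Alt12Inv.Close
import Mathlib.GroupTheory.SpecificGroups.Alternating.Simple

/-!
The alternating subgroup of degree twelve as data for the closing argument, and the case where the
centralizer of the regular group is small.
-/

set_option autoImplicit false
set_option maxRecDepth 100000
set_option linter.style.haveILetI false

namespace CfsgLib.Alt12Inv

open Equiv CfsgLib.BPres

universe u

theorem aEl_reps : (aEl 1).support.card = 4 ∧ (aEl 5).support.card = 8 ∧ (aEl 21).support.card = 12 ∧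
    weight 1 = 1 ∧ weight 5 = 2 ∧ weight 21 = 3 := by decide +kernel

theorem pReg_values : pFour 12 = aEl 5 ∧ pReg₁ 12 = aEl 10 ∧ pReg₂ 12 = pP := by
  refine ⟨?_, ?_, ?_⟩ <;> refine Equiv.ext ?_ <;> decide +kernel

/-- An involution of the alternating group of degree twelve is conjugate to a translation. -/
theorem exists_code_conj {x : ↥(alternatingGroup (Fin 12))} (hx : x * x = 1) :
    ∃ v k, k * x * k⁻¹ = toAlt (aC v) ∧ (x : Perm (Fin 12)).support.card = 4 * weight v := by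
  by_cases hx1 : x = 1
  · exact ⟨0, 1, by rw [hx1, aC_zero, map_one]; group, by rw [hx1]; decide +kernel⟩
  have hx' : (x : Perm (Fin 12)) * x = 1 := congrArg Subtype.val hx
  have hx1' : (x : Perm (Fin 12)) ≠ 1 := fun h => hx1 (Subtype.ext h)
  obtain ⟨c1, c5, c21, -⟩ := aEl_reps
  obtain ⟨v, hv⟩ : ∃ v, (x : Perm (Fin 12)).support.card = (aEl v).support.card := by
    rcases invol_cases (by norm_num) hx' x.2 hx1' with h | h | h
    · exact ⟨1, h.2.trans c1.symm⟩
    · exact ⟨5, h.2.trans c5.symm⟩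
    · exact ⟨21, h.2.trans c21.symm⟩
  obtain ⟨k, hk, e⟩ := exists_conj_alt hx' (congrArg Subtype.val (aC_sq v)) hx1' hv
  exact ⟨v, ⟨k, hk⟩, Subtype.ext e, hv.trans (card_support_aEl v)⟩

/-- The subgroup of degree twelve. -/
structure Model {G : Type u} [Group G] {α : G} {T : Twenty α} (L : Lift T.F) where
  /-- The embedding. -/
  φ : ↥(alternatingGroup (Fin 12)) →* G
  inj : Function.Injective φ
  cyc_eq : ∀ k : Fin 12, 2 ≤ k.1 → φ (cyc 0 1 k) = T.z L k
  agree : ∀ x, φ (toAlt x) = T.F.ι x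

namespace Twenty

variable {G : Type u} [Group G] {α : G} (T : Twenty α) (L : Lift T.F)

include L in
theorem exists_model : Nonempty (Model L) := by
  obtain ⟨φ, hc, ha⟩ := T.exists_twelve L
  haveI : IsSimpleGroup (alternatingGroup (Fin 12)) := alternatingGroup.isSimpleGroup (by simp)
  rcases Subgroup.Normal.eq_bot_or_eq_top (inferInstance : φ.ker.Normal) with h | h
  · exact ⟨⟨φ, (MonoidHom.ker_eq_bot_iff φ).1 h, hc, ha⟩⟩
  · exfalso
    have h1 : T.F.ι (aC 21) = 1 := by rw [← ha]; exact MonoidHom.mem_ker.1 (h ▸ Subgroup.mem_top _)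
    exact absurd (T.F.inj (h1.trans (map_one _).symm)) (by decide +kernel)

/-- The centralizer of the regular group. -/
def Lr : Subgroup G := Subgroup.centralizer ({T.F.a 5, T.F.a 10, T.F.ι cP} : Set G)

theorem mem_Lr {c : G} :
    c ∈ T.Lr ↔ Commute c (T.F.a 5) ∧ Commute c (T.F.a 10) ∧ Commute c (T.F.ι cP) := by
  rw [Lr, Subgroup.mem_centralizer_iff]
  simp only [Set.mem_insert_iff, Set.mem_singleton_iff, forall_eq_or_imp, forall_eq]
  exact ⟨fun ⟨a, b, c⟩ => ⟨a.symm, b.symm, c.symm⟩, fun ⟨a, b, c⟩ => ⟨a.symm.eq, b.symm.eq, c.symm.eq⟩⟩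

/-- A conjugate of a translation of the last quadruple inside the regular group times those is one. -/
theorem code_of_mem {k k' : Fin 64} {j : Fin 8} (hk : k.1 % 16 = 0) (hk1 : k ≠ 0) (hk' : k'.1 % 16 = 0)
    (h : IsConj (T.F.a k) (T.F.ι (regEl j) * T.F.a k')) : j = 0 ∧ k' ≠ 0 := by
  have key : ∀ k : Fin 64, k.1 % 16 = 0 → k ≠ 0 → ∀ k' : Fin 64, k'.1 % 16 = 0 → ∀ j : Fin 8,
      (regEl j * aC k' * (regEl j * aC k') = 1) ∧
      ((aC k : ↥C₀).1.support.card = (regEl j * aC k' : ↥C₀).1.support.card → j = 0 ∧ k' ≠ 0) := by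
    decide +kernel
  obtain ⟨h2, hj⟩ := key k hk hk1 k' hk' j
  refine hj (T.support_eq (aC_sq k) h2 ?_)
  rw [map_mul]
  exact h

end Twenty

namespace Model

variable {G : Type u} [Group G] {α : G} {T : Twenty α} {L : Lift T.F} (M : Model L)

include M

theorem code_eq (v : Fin 64) : M.φ (toAlt (aC v)) = T.F.a v := M.agree (aC v)

theorem range_contains {c : G} (h : Commute c α) : c ∈ M.φ.range := by
  have hc : c ∈ T.F.ι.range := by rw [T.F.range_eq, Subgroup.mem_centralizer_singleton_iff]; exact h.eq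
  obtain ⟨x, rfl⟩ := hc
  exact ⟨toAlt x, M.agree x⟩

theorem ι_mem (x : ↥C₀) : T.F.ι x ∈ M.φ.range := ⟨toAlt x, M.agree x⟩

theorem t_eq : M.φ (cyc 0 1 2) = L.t := by
  rw [M.cyc_eq 2 le_rfl, Twenty.z, show rep2 2 = 1 from rfl, map_one, one_mul, inv_one, mul_one]

theorem t2_eq : M.φ (toAlt cY * cyc 0 1 2 * toAlt cY) = L.t2 := by
  rw [map_mul, map_mul, M.agree, M.t_eq]; rfl

theorem six_iff (x : ↥(alternatingGroup (Fin 12))) : Six (x : Perm (Fin 12)) ↔ IsConj α (M.φ x) := by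
  have hα : M.φ (toAlt (aC 21)) = α := (M.code_eq 21).trans T.F.centre
  have e21 : Six (aEl 21) := ⟨congrArg Subtype.val (aC_sq 21), aEl_reps.2.2.1⟩
  constructor
  · intro hx
    obtain ⟨k, hk, e⟩ := exists_conj_alt e21.1 hx.1 e21.ne_one (e21.2.trans hx.2.symm)
    have h := M.φ.map_isConj (isConj_iff.2 ⟨⟨k, hk⟩, Subtype.ext e⟩ : IsConj (toAlt (aC 21)) x)
    rwa [hα] at h
  · intro h
    obtain ⟨g, hg⟩ := isConj_iff.1 h
    have hx : x * x = 1 := M.inj (by
      rw [map_mul, map_one, ← hg, ← hα]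
      calc g * M.φ (toAlt (aC 21)) * g⁻¹ * (g * M.φ (toAlt (aC 21)) * g⁻¹)
          = g * (M.φ (toAlt (aC 21)) * M.φ (toAlt (aC 21))) * g⁻¹ := by group
        _ = 1 := by rw [← map_mul, ← map_mul, aC_sq, map_one, map_one]; group)
    obtain ⟨v, k, e, hs⟩ := exists_code_conj hx
    have h2 : IsConj (T.F.a 21) (T.F.a v) := by
      rw [show T.F.a 21 = α from T.F.centre, ← M.code_eq v, ← e]
      exact h.trans (isConj_iff.2 ⟨M.φ k, by rw [map_mul, map_mul, map_inv]⟩)
    rw [← T.wt 21 v h2, aEl_reps.2.2.2.2.2] at hs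
    exact ⟨congrArg Subtype.val hx, hs⟩

theorem class_eq {x y : ↥(alternatingGroup (Fin 12))} (hx : x * x = 1) (hy : y * y = 1)
    (h : IsConj (M.φ x) (M.φ y)) : (x : Perm (Fin 12)).support.card = (y : Perm (Fin 12)).support.card := by
  obtain ⟨v, k, ek, hv⟩ := exists_code_conj hx
  obtain ⟨w, l, el, hw⟩ := exists_code_conj hy
  have h1 : IsConj (T.F.a v) (M.φ x) :=
    (isConj_iff.2 ⟨M.φ k, by rw [← M.code_eq v, ← ek, map_mul, map_mul, map_inv]⟩).symm
  have h2 : IsConj (M.φ y) (T.F.a w) :=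
    isConj_iff.2 ⟨M.φ l, by rw [← M.code_eq w, ← el, map_mul, map_mul, map_inv]⟩
  rw [hv, hw, T.wt v w ((h1.trans h).trans h2)]

theorem twoFour (x y : ↥(alternatingGroup (Fin 12))) (hx : Two (x : Perm (Fin 12)))
    (hy : Four (y : Perm (Fin 12))) : ¬ IsConj (M.φ x) (M.φ y) := fun h => by
  have := M.class_eq (Subtype.ext hx.1) (Subtype.ext hy.1) h
  rw [hx.2, hy.2] at this
  omega

/-- If the regular group's centralizer normalizes the last quadruple, it lies in the subgroup. -/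
theorem Lr_le (hV : ∀ c ∈ T.Lr, ∃ j k, k.1 % 16 = 0 ∧ c * T.F.a 16 * c⁻¹ = T.F.ι (regEl j) * T.F.a k) :
    T.Lr ≤ M.φ.range := by
  intro c hc
  obtain ⟨j, k, hk, e⟩ := hV c hc
  obtain ⟨rfl, hk0⟩ := T.code_of_mem (k := 16) (by decide) (by decide) hk (isConj_iff.2 ⟨c, e⟩)
  rw [show regEl 0 = 1 from by decide +kernel, map_one, one_mul] at e
  obtain ⟨h5, h10⟩ := T.t2_R L
  have ht2 : L.t2 ∈ T.Lr := T.mem_Lr.2 ⟨h5, h10, L.P_t2.symm⟩
  have orbit : ∀ i : ℕ, L.t2 ^ i * T.F.a 16 * (L.t2 ^ i)⁻¹ = T.F.a (rot2^[i] 16) := by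
    intro i
    induction i with
    | zero => simp
    | succ i ih =>
      rw [Function.iterate_succ_apply', ← L.t2_act, ← ih, pow_succ']
      group
  obtain ⟨i, hi⟩ : ∃ i, rot2^[i] 16 = k := by
    have key : ∀ k : Fin 64, k.1 % 16 = 0 → k ≠ 0 → rot2^[0] 16 = k ∨ rot2^[1] 16 = k ∨ rot2^[2] 16 = k := by
      decide +kernel
    rcases key k hk hk0 with h | h | h <;> exact ⟨_, h⟩
  obtain ⟨d, hd⟩ : ∃ d, d = (L.t2 ^ i)⁻¹ * c := ⟨_, rfl⟩
  have hdL : d ∈ T.Lr := hd ▸ mul_mem (inv_mem (pow_mem ht2 i)) hc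
  have hd16 : Commute d (T.F.a 16) := by
    refine mul_inv_eq_iff_eq_mul.1 ?_
    calc d * T.F.a 16 * d⁻¹ = (L.t2 ^ i)⁻¹ * (c * T.F.a 16 * c⁻¹) * L.t2 ^ i := by rw [hd]; group
      _ = T.F.a 16 := by rw [e, ← hi, ← orbit]; group
  obtain ⟨d5, d10, dP⟩ := T.mem_Lr.1 hdL
  obtain ⟨j', k', -, e'⟩ := T.cent_R d5 d10 dP hd16
  rw [show c = L.t2 ^ i * d by rw [hd, mul_inv_cancel_left], e']
  exact mul_mem (pow_mem (show L.t2 ∈ M.φ.range from ⟨_, M.t2_eq⟩) i)
    (mul_mem (M.ι_mem _) ⟨_, M.code_eq k'⟩)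

/-- The small case: the group is alternating of degree twelve. -/
theorem twelve_iso [Finite G] (h : T.Lr ≤ M.φ.range) : Nonempty (G ≃* ↥(alternatingGroup (Fin 12))) := by
  obtain ⟨e5, e10, eP⟩ := pReg_values
  let C : Core α 12 :=
    { f := M.φ
      inj := M.inj
      le := fun c hc => M.range_contains hc
      six := M.six_iff
      twoFour := M.twoFour
      reg := fun j a b hj ha hb c cj ca cb => by
        refine h (T.mem_Lr.2 ⟨?_, ?_, ?_⟩)
        · rwa [show j = toAlt (aC 5) from Subtype.ext (hj.trans e5), M.code_eq] at cj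
        · rwa [show a = toAlt (aC 10) from Subtype.ext (ha.trans e10), M.code_eq] at ca
        · rwa [show b = toAlt cP from Subtype.ext (hb.trans eP), M.agree] at cb
      two := T.two }
  exact ⟨(MulEquiv.ofBijective C.f ⟨C.inj, C.surjective (Or.inl rfl)⟩).symm⟩

end Model

end CfsgLib.Alt12Inv
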