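import Cfsg.Agent.Alt12Inv.Twenty.EightRel
import Cfsg.Agent.BPres.Carmichael

/-!
The alternating group of degree twelve inside the group, extending the coordinates on the centralizer.
-/

set_option autoImplicit false
set_option maxRecDepth 100000
set_option linter.style.haveILetI false

namespace CfsgLib.Alt12Inv

open Equiv CfsgLib.BPres CfsgLib.Coset

universe u

/-- Inclusion of the centralizer in the alternating group. -/
def toAlt : ↥C₀ →* ↥(alternatingGroup (Fin 12)) := Subgroup.inclusion inf_le_left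

theorem toAlt_val (x : ↥C₀) : ((toAlt x : ↥(alternatingGroup (Fin 12))) : Perm (Fin 12)) = x := rfl

theorem inv_app (g : ↥C₀) {p q : Fin 12} (h : g.1 p = q) : g.1⁻¹ q = p := h ▸ g.1.symm_apply_apply p

/-- An element of the stabilizer of the first cycle moving the point four. -/
def rep4 (j : Fin 12) : ↥C₀ :=
  [1, 1, 1, 1, 1, cFlip, aC 8, aC 12, cX, cX * cFlip, cX * aC 8, cX * aC 12].getD j.1 1

/-- An element moving two, fixing zero and one. -/
def rep2 (j : Fin 12) : ↥C₀ :=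
  [1, 1, 1, cHW * aC 1, cS, cS * (cHW * aC 1), aC 8 * cS, aC 12 * cS, cX * cS, cX * cFlip * cS, cX * aC 8 * cS,
    cX * aC 12 * cS].getD j.1 1

/-- An element moving zero. -/
def rep0 (j : Fin 12) : ↥C₀ :=
  [1, aC 1, aC 2, aC 3, cP, cP * aC 1, cP * aC 2, cP * aC 3, cY, cY * aC 1, cY * aC 2, cY * aC 3].getD j.1 1

theorem rep4_facts : ∀ j : Fin 12, 4 ≤ j.1 → (rep4 j).1 0 = 0 ∧ (rep4 j).1 1 = 1 ∧ (rep4 j).1 2 = 2 ∧
    (rep4 j).1 3 = 3 ∧ (rep4 j).1 4 = j := by decide +kernel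

theorem rep2_facts : ∀ j : Fin 12, 2 ≤ j.1 → (rep2 j).1 0 = 0 ∧ (rep2 j).1 1 = 1 ∧ (rep2 j).1 2 = j := by
  decide +kernel

theorem rep0_facts : ∀ j : Fin 12, (rep0 j).1 0 = j := by decide +kernel

/-- Elements fixing the first three points. -/
inductive Stab : ↥C₀ → Prop
  | code (v : Fin 64) (h : v.1 % 4 = 0) : Stab (aC v)
  | flip : Stab cFlip
  | exch : Stab cX
  | cross : Stab cS'
  | mul {x y : ↥C₀} : Stab x → Stab y → Stab (x * y)

theorem Stab.one : Stab 1 := by rw [← aC_zero]; exact Stab.code 0 rfl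

theorem t₀_pairs : t₀ 0 = 1 ∧ t₀ 2 = 3 ∧ t₀ 4 = 5 ∧ t₀ 6 = 7 ∧ t₀ 8 = 9 ∧ t₀ 10 = 11 ∧ t₀ 11 = 10 := by decide +kernel

theorem app_t₀ (x : ↥C₀) (p : Fin 12) : x.1 (t₀ p) = t₀ (x.1 p) :=
  congrArg (fun z : Perm (Fin 12) => z p) (mem_C₀.1 x.2).2

theorem rep4_stab (j : Fin 12) : Stab (rep4 j) := by
  fin_cases j
  all_goals first
    | exact Stab.one
    | exact Stab.flip
    | exact Stab.exch
    | exact Stab.code _ rfl
    | exact Stab.mul Stab.exch Stab.flip
    | exact Stab.mul Stab.exch (Stab.code _ rfl)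

/-- The stabilizer of the first three points is generated by the listed elements. -/
theorem stab_of_fix (x : ↥C₀) (h0 : x.1 0 = 0) (h2 : x.1 2 = 2) : Stab x := by
  have h1 : x.1 1 = 1 := by have := app_t₀ x 0; rwa [t₀_pairs.1, h0, t₀_pairs.1] at this
  have h3 : x.1 3 = 3 := by have := app_t₀ x 2; rwa [t₀_pairs.2.1, h2, t₀_pairs.2.1] at this
  have low : ∀ (g : ↥C₀) (n : ℕ), (∀ p : Fin 12, p.1 < n → g.1 p = p) → ∀ p : Fin 12, n ≤ p.1 → n ≤ (g.1 p).1 := by
    intro g n h p hp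
    by_contra hlt
    have := g.1.injective (h (g.1 p) (by omega))
    omega
  have f4 : ∀ p : Fin 12, p.1 < 4 → x.1 p = p := by
    intro p hp
    have : p = 0 ∨ p = 1 ∨ p = 2 ∨ p = 3 := by omega
    rcases this with rfl | rfl | rfl | rfl <;> assumption
  -- the third pair
  obtain ⟨g, hg⟩ : ∃ g, g = rep4 (x.1 4) := ⟨_, rfl⟩
  obtain ⟨g0, g1, g2, g3, g4⟩ := rep4_facts _ (low x 4 f4 4 le_rfl)
  rw [← hg] at g0 g1 g2 g3 g4
  obtain ⟨y, hy⟩ : ∃ y, y = g⁻¹ * x := ⟨_, rfl⟩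
  have hxy : x = g * y := by rw [hy, mul_inv_cancel_left]
  have fy : ∀ p, g.1 p = x.1 p → y.1 p = p := fun p e => by
    rw [hy]; show g.1⁻¹ (x.1 p) = p; rw [← e]; exact g.1.symm_apply_apply p
  have y4 : y.1 4 = 4 := fy 4 g4
  have y5 : y.1 5 = 5 := by have := app_t₀ y 4; rwa [t₀_pairs.2.2.1, y4, t₀_pairs.2.2.1] at this
  have f6 : ∀ p : Fin 12, p.1 < 6 → y.1 p = p := by
    intro p hp
    have : p = 0 ∨ p = 1 ∨ p = 2 ∨ p = 3 ∨ p = 4 ∨ p = 5 := by omega
    rcases this with rfl | rfl | rfl | rfl | rfl | rfl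
    exacts [fy 0 (g0.trans h0.symm), fy 1 (g1.trans h1.symm), fy 2 (g2.trans h2.symm), fy 3 (g3.trans h3.symm),
      y4, y5]
  -- the fourth pair
  have key6 : ∀ j : Fin 12, 6 ≤ j.1 → ∃ r ∈ ([1, aC 4 * cFlip, cS', cS' * (aC 4 * cFlip), aC 32 * cS',
      aC 32 * (cS' * (aC 4 * cFlip))] : List ↥C₀), (r.1 6 = j ∧ ∀ p : Fin 12, p.1 < 6 → r.1 p = p) := by
    decide +kernel
  obtain ⟨r, hr, r6, rfix⟩ := key6 _ (low y 6 f6 6 le_rfl)
  have hrS : Stab r := by
    simp only [List.mem_cons, List.not_mem_nil, or_false] at hr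
    have s46 : Stab (aC 4 * cFlip) := Stab.mul (Stab.code _ rfl) Stab.flip
    rcases hr with rfl | rfl | rfl | rfl | rfl | rfl
    exacts [Stab.one, s46, Stab.cross, Stab.mul Stab.cross s46, Stab.mul (Stab.code _ rfl) Stab.cross,
      Stab.mul (Stab.code _ rfl) (Stab.mul Stab.cross s46)]
  obtain ⟨z, hz⟩ : ∃ z, z = r⁻¹ * y := ⟨_, rfl⟩
  have hyz : y = r * z := by rw [hz, mul_inv_cancel_left]
  have fz : ∀ p, r.1 p = y.1 p → z.1 p = p := fun p e => by
    rw [hz]; show r.1⁻¹ (y.1 p) = p; rw [← e]; exact r.1.symm_apply_apply p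
  have z6 : z.1 6 = 6 := fz 6 r6
  have z7 : z.1 7 = 7 := by have := app_t₀ z 6; rwa [t₀_pairs.2.2.2.1, z6, t₀_pairs.2.2.2.1] at this
  have f8 : ∀ p : Fin 12, p.1 < 8 → z.1 p = p := by
    intro p hp
    by_cases h : p.1 < 6
    · exact fz p ((rfix p h).trans (f6 p h).symm)
    · have : p = 6 ∨ p = 7 := by omega
      rcases this with rfl | rfl <;> assumption
  -- the last pairs
  have key8 : ∀ j : Fin 12, 8 ≤ j.1 → ∃ k : Fin 64, k.1 % 4 = 0 ∧ (aC k).1 8 = j ∧
      (∀ p : Fin 12, p.1 < 8 → (aC k).1 p = p) := by decide +kernel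
  obtain ⟨k, hk, k8, kfix⟩ := key8 _ (low z 8 f8 8 le_rfl)
  suffices hzk : z = aC k by
    rw [hxy, hyz, hzk, hg]
    exact Stab.mul (rep4_stab _) (Stab.mul hrS (Stab.code k hk))
  obtain ⟨w, hw⟩ : ∃ w, w = (aC k)⁻¹ * z := ⟨_, rfl⟩
  suffices w = 1 by rw [this] at hw; exact (inv_mul_eq_one.1 hw.symm).symm
  have fw : ∀ p, (aC k).1 p = z.1 p → w.1 p = p := fun p e => by
    rw [hw]; show (aC k).1⁻¹ (z.1 p) = p; rw [← e]; exact (aC k).1.symm_apply_apply p
  have w8 : w.1 8 = 8 := fw 8 k8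
  have w9 : w.1 9 = 9 := by have := app_t₀ w 8; rwa [t₀_pairs.2.2.2.2.1, w8, t₀_pairs.2.2.2.2.1] at this
  have f10 : ∀ p : Fin 12, p.1 < 10 → w.1 p = p := by
    intro p hp
    by_cases h : p.1 < 8
    · exact fw p ((kfix p h).trans (f8 p h).symm)
    · have : p = 8 ∨ p = 9 := by omega
      rcases this with rfl | rfl <;> assumption
  have h10 : w.1 10 = 10 ∨ w.1 10 = 11 := by
    have := low w 10 f10 10 le_rfl
    omega
  have h11 : w.1 11 = t₀ (w.1 10) := by have := app_t₀ w 10; rwa [t₀_pairs.2.2.2.2.2.1] at this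
  rcases h10 with e | e
  · refine Subtype.ext (Equiv.ext fun p => ?_)
    show w.1 p = p
    by_cases h : p.1 < 10
    · exact f10 p h
    · have : p = 10 ∨ p = 11 := by omega
      rcases this with rfl | rfl
      · exact e
      · rw [h11, e, t₀_pairs.2.2.2.2.2.1]
  · exfalso
    have hs : (w : Perm (Fin 12)) = swap 10 11 := by
      refine Equiv.ext fun p => ?_
      by_cases h : p.1 < 10
      · rw [f10 p h, swap_apply_of_ne_of_ne] <;> omega
      · have : p = 10 ∨ p = 11 := by omega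
        rcases this with rfl | rfl
        · rw [e, swap_apply_left]
        · rw [h11, e, t₀_pairs.2.2.2.2.2.2, swap_apply_right]
    have := (mem_C₀.1 w.2).1
    rw [hs, Perm.mem_alternatingGroup, Perm.sign_swap (by decide)] at this
    exact absurd this (by decide)

namespace Twenty

variable {G : Type u} [Group G] {α : G} (T : Twenty α) (L : Lift T.F)

include L in
theorem stab_comm {x : ↥C₀} (hx : Stab x) : Commute (T.F.ι x) L.t := by
  have code : ∀ v : Fin 64, v.1 % 4 = 0 → Commute (T.F.ι (aC v)) L.t := fun v h => by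
    have h' : ∀ v : Fin 64, v.1 % 4 = 0 → rotCode v = v := by decide +kernel
    have := L.act v
    rw [h' v h] at this
    exact (mul_inv_eq_iff_eq_mul.1 this).symm
  induction hx with
  | code v h => exact code v h
  | flip => exact L.fixF
  | exch => exact L.fixX
  | cross =>
    have h := (T.t2_S L).map (MulAut.conj (T.F.ι cY)).toMonoidHom
    simp only [MulEquiv.coe_toMonoidHom, MulAut.conj_apply, Lift.ι_inv cY_sq] at h
    have e : T.F.ι cY * L.t2 * T.F.ι cY = L.t := by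
      calc T.F.ι cY * L.t2 * T.F.ι cY = (T.F.ι cY * T.F.ι cY) * L.t * (T.F.ι cY * T.F.ι cY) := by
            rw [Lift.t2]; group
        _ = _ := by rw [Lift.ι_sq cY_sq, one_mul, mul_one]
    rw [e, ← map_mul, ← map_mul] at h
    rw [show cS' = aC 40 * (cY * cS * cY) * aC 40 from by decide +kernel, map_mul, map_mul]
    exact ((code 40 (by decide)).mul_left h.symm).mul_left (code 40 (by decide))
  | mul _ _ iha ihb => rw [map_mul]; exact iha.mul_left ihb

/-- The images of the three-cycles `(0 1 k)`. -/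
def z (k : Fin 12) : G := T.F.ι (rep2 k) * L.t * (T.F.ι (rep2 k))⁻¹

theorem z_conj {c : ↥C₀} (h0 : c.1 0 = 0) {k : Fin 12} (h2 : c.1 2 = k) :
    T.F.ι c * L.t * (T.F.ι c)⁻¹ = T.z L k := by
  have hk : 2 ≤ k.1 := by
    by_contra hlt
    have h1 : c.1 1 = 1 := by have := app_t₀ c 0; rwa [t₀_pairs.1, h0, t₀_pairs.1] at this
    have : k = 0 ∨ k = 1 := by omega
    rcases this with rfl | rfl
    · exact absurd (c.1.injective (h2.trans h0.symm)) (by decide)
    · exact absurd (c.1.injective (h2.trans h1.symm)) (by decide)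
  obtain ⟨r0, -, r2⟩ := rep2_facts k hk
  obtain ⟨s, hs⟩ : ∃ s, s = (rep2 k)⁻¹ * c := ⟨_, rfl⟩
  have hS : Stab s := stab_of_fix s
    (by rw [hs]; show (rep2 k).1⁻¹ (c.1 0) = 0; rw [h0]; exact inv_app _ r0)
    (by rw [hs]; show (rep2 k).1⁻¹ (c.1 2) = 2; rw [h2]; exact inv_app _ r2)
  have hc := T.stab_comm L hS
  rw [show c = rep2 k * s by rw [hs, mul_inv_cancel_left], map_mul, z]
  calc T.F.ι (rep2 k) * T.F.ι s * L.t * (T.F.ι (rep2 k) * T.F.ι s)⁻¹
      = T.F.ι (rep2 k) * (T.F.ι s * L.t) * (T.F.ι s)⁻¹ * (T.F.ι (rep2 k))⁻¹ := by group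
    _ = _ := by rw [hc.eq]; group

theorem z_equiv {c : ↥C₀} (h0 : c.1 0 = 0) {k : Fin 12} (hk : 2 ≤ k.1) :
    T.F.ι c * T.z L k * (T.F.ι c)⁻¹ = T.z L (c.1 k) := by
  obtain ⟨r0, -, r2⟩ := rep2_facts k hk
  rw [← T.z_conj L (c := c * rep2 k) (k := c.1 k)
    (by show c.1 ((rep2 k).1 0) = 0; rw [r0, h0]) (by show c.1 ((rep2 k).1 2) = c.1 k; rw [r2]), z, map_mul]
  group

set_option maxHeartbeats 2000000 in
theorem exists_twelve : ∃ φ : ↥(alternatingGroup (Fin 12)) →* G,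
    (∀ k : Fin 12, 2 ≤ k.1 → φ (cyc 0 1 k) = T.z L k) ∧ ∀ x, φ (toAlt x) = T.F.ι x := by
  have ne2 : ∀ i : Fin 12, i ≠ 0 → i ≠ 1 → 2 ≤ i.1 := fun i a b => by omega
  have z2 : T.z L 2 = L.t := by
    rw [z, show rep2 2 = 1 from rfl, map_one, one_mul, inv_one, mul_one]
  have z3 : T.z L 3 = T.F.ι (cHW * aC 1) * L.t * T.F.ι (cHW * aC 1) := by
    rw [z, show rep2 3 = cHW * aC 1 from rfl, Lift.ι_inv (by decide +kernel)]
  have z4 : T.z L 4 = T.F.ι cS * L.t * T.F.ι cS := by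
    rw [z, show rep2 4 = cS from rfl, Lift.ι_inv cS_sq]
  obtain ⟨φ, hφ⟩ := carmichael (α := Fin 12) (a := 0) (b := 1) (by decide) (T.z L)
    (fun i _ _ => by rw [z, conj_pow, L.cube]; group)
    (fun i j hi0 hi1 hj0 hj1 hij => by
      obtain ⟨r0, r1, r2⟩ := rep2_facts i (ne2 i hi0 hi1)
      obtain ⟨j', hj'⟩ : ∃ j', j' = (rep2 i).1⁻¹ j := ⟨_, rfl⟩
      have hj'' : (rep2 i).1 j' = j := by rw [hj']; exact (rep2 i).1.apply_symm_apply j
      have hj2 : 3 ≤ j'.1 := by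
        by_contra hlt
        have : j' = 0 ∨ j' = 1 ∨ j' = 2 := by omega
        rcases this with e | e | e <;> rw [e] at hj''
        exacts [hj0 (hj''.symm.trans r0), hj1 (hj''.symm.trans r1), hij (r2.symm.trans hj'')]
      obtain ⟨c, c0, c2, k, hk, ck⟩ : ∃ c : ↥C₀, c.1 0 = 0 ∧ c.1 2 = i ∧ ∃ k : Fin 12, (k = 3 ∨ k = 4) ∧ c.1 k = j := by
        by_cases h3 : j' = 3
        · exact ⟨rep2 i, r0, r2, 3, Or.inl rfl, h3 ▸ hj''⟩
        · obtain ⟨g0, -, g2, -, g4⟩ := rep4_facts j' (by omega)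
          refine ⟨rep2 i * rep4 j', ?_, ?_, 4, Or.inr rfl, ?_⟩
          · show (rep2 i).1 ((rep4 j').1 0) = 0; rw [g0, r0]
          · show (rep2 i).1 ((rep4 j').1 2) = i; rw [g2, r2]
          · show (rep2 i).1 ((rep4 j').1 4) = j; rw [g4, hj'']
      obtain ⟨h3, h4⟩ := T.carmichael_two L
      have base : (T.z L 2 * T.z L k) ^ 2 = 1 := by
        rcases hk with rfl | rfl
        · rw [z2, z3]; exact h3
        · rw [z2, z4]; exact h4
      have e : T.z L i * T.z L j = T.F.ι c * (T.z L 2 * T.z L k) * (T.F.ι c)⁻¹ := by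
        rw [← c2, ← ck, ← T.z_equiv L c0 (k := 2) le_rfl,
          ← T.z_equiv L c0 (k := k) (by rcases hk with rfl | rfl <;> decide)]
        group
      rw [e, conj_pow, base]; group)
  have hcyc : ∀ k : Fin 12, 2 ≤ k.1 → φ (cyc 0 1 k) = T.z L k := fun k hk =>
    hφ k (by omega) (by omega)
  refine ⟨φ, hcyc, ?_⟩
  -- equivariance
  have equi : ∀ c : ↥C₀, c.1 0 = 0 → ∀ y, φ (toAlt c * y * (toAlt c)⁻¹) = T.F.ι c * φ y * (T.F.ι c)⁻¹ := by
    intro c h0
    have h1 : c.1 1 = 1 := by have := app_t₀ c 0; rwa [t₀_pairs.1, h0, t₀_pairs.1] at this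
    have e : φ.comp (MulAut.conj (toAlt c)).toMonoidHom = (MulAut.conj (T.F.ι c)).toMonoidHom.comp φ := by
      refine hom_ext_cyc (a := 0) (b := 1) (by decide) fun i hi0 hi1 => ?_
      show φ (toAlt c * cyc 0 1 i * (toAlt c)⁻¹) = T.F.ι c * φ (cyc 0 1 i) * (T.F.ι c)⁻¹
      rw [cyc_conj _ (by decide) hi0.symm, toAlt_val, h0, h1, hcyc i (ne2 i hi0 hi1),
        T.z_equiv L h0 (ne2 i hi0 hi1), hcyc (c.1 i) (ne2 _ (fun e => hi0 (c.1.injective (e.trans h0.symm)))
          fun e => hi1 (c.1.injective (e.trans h1.symm)))]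
    exact fun y => DFunLike.congr_fun e y
  -- agreement on the six letters
  obtain ⟨X, hX⟩ : ∃ X, X = Subgroup.closure {x | x ∈ L.pairs} := ⟨_, rfl⟩
  obtain ⟨Y, hY⟩ : ∃ Y : Subgroup ↥(alternatingGroup (Fin 12)),
      Y = X.comap (φ.prod (alternatingGroup (Fin 12)).subtype) := ⟨_, rfl⟩
  have hgen : ∀ x ∈ L.pairs, x ∈ X := fun x hx => hX ▸ Subgroup.subset_closure hx
  have cval : ∀ k : Fin 12, 2 ≤ k.1 → ((cyc 0 1 k : ↥(alternatingGroup (Fin 12))) : Perm (Fin 12)) =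
      swap 0 k * swap 0 1 := fun k hk => cyc_val (by decide) fun e : (0 : Fin 12) = k => by rw [← e] at hk; simp at hk
  have hzY : ∀ (k : Fin 12) (l : List Nat), 2 ≤ k.1 → (∀ n ∈ l, n < 6) → ev cLetters l = rep2 k →
      (∀ p, (rep2 k).1 (pT ((rep2 k).1⁻¹ p)) = (swap 0 k * swap 0 1 : Perm (Fin 12)) p) → cyc 0 1 k ∈ Y := by
    intro k l hk hl e hp
    have hm : ev L.pairs l ∈ X := by
      clear e
      induction l with
      | nil => exact one_mem _
      | cons n l ih =>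
        rw [ev_cons]
        refine mul_mem ?_ (ih fun x hx => hl x (by simp [hx]))
        have hn : n < L.pairs.length := lt_of_lt_of_le (hl n (by simp)) (by simp [Lift.pairs])
        rw [fl, List.getD_eq_getElem _ _ hn]
        exact hgen _ (List.getElem_mem hn)
    rw [L.ev_pairs_low l hl, e] at hm
    have h2 := mul_mem (mul_mem hm (hgen (L.t, pT) (by simp [Lift.pairs]))) (inv_mem hm)
    rw [hY, Subgroup.mem_comap]
    convert h2 using 1
    refine Prod.ext (hcyc k hk) ?_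
    show ((cyc 0 1 k : ↥(alternatingGroup (Fin 12))) : Perm (Fin 12)) = _
    rw [cval k hk]
    exact Equiv.ext fun p => (hp p).symm
  have y2 := hzY 2 [] le_rfl (by simp) rfl (by decide +kernel)
  have y3 := hzY 3 [4, 0] (by decide) (by decide) (by decide +kernel) (by decide +kernel)
  have y4 := hzY 4 [2] (by decide) (by decide) (by decide +kernel) (by decide +kernel)
  have y5 := hzY 5 [2, 4, 0] (by decide) (by decide) (by decide +kernel) (by decide +kernel)
  have y6 := hzY 6 [3, 2] (by decide) (by decide) (by decide +kernel) (by decide +kernel)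
  have y7 := hzY 7 [5, 0, 5, 3, 2] (by decide) (by decide) (by decide +kernel) (by decide +kernel)
  have agreeX : ∀ x : ↥C₀, ((T.F.ι x, (x : Perm (Fin 12))) : G × Perm (Fin 12)) ∈ L.pairs → toAlt x ∈ Y →
      φ (toAlt x) = T.F.ι x := by
    intro x hx hy
    rw [hY, Subgroup.mem_comap] at hy
    have h := T.eight_fun L (g := (φ.prod (alternatingGroup (Fin 12)).subtype (toAlt x)) *
      ((T.F.ι x, (x : Perm (Fin 12))))⁻¹) (hX ▸ mul_mem hy (inv_mem (hgen _ hx))) (mul_inv_cancel _)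
    exact mul_inv_eq_one.1 h
  obtain ⟨K, hK⟩ : ∃ K : Subgroup ↥C₀, K = MonoidHom.eqLocus (φ.comp toAlt) T.F.ι := ⟨_, rfl⟩
  have inK : ∀ {x}, x ∈ K ↔ φ (toAlt x) = T.F.ι x := fun {x} => by rw [hK]; rfl
  have word : ∀ (x : ↥C₀) (w : List (Fin 12)), ((T.F.ι x, (x : Perm (Fin 12))) : G × Perm (Fin 12)) ∈ L.pairs →
      (∀ k ∈ w, k ∈ ([2, 3, 4, 5, 6, 7] : List (Fin 12))) →
      (∀ p, x.1 p = (w.map fun k => (swap 0 k * swap 0 1 : Perm (Fin 12))).prod p) → x ∈ K := by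
    intro x w hx hw hp
    refine inK.2 (agreeX x hx ?_)
    have e : toAlt x = (w.map fun k => cyc 0 1 k).prod := by
      refine Subtype.ext ?_
      rw [Subgroup.val_list_prod, List.map_map]
      refine (Equiv.ext hp).trans (congrArg List.prod (List.map_congr_left fun k hk => ?_))
      have hk' := hw k hk
      simp only [List.mem_cons, List.not_mem_nil, or_false] at hk'
      exact (cval k (by rcases hk' with rfl | rfl | rfl | rfl | rfl | rfl <;> decide)).symm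
    rw [e]
    refine list_prod_mem fun y hy => ?_
    obtain ⟨k, hk, rfl⟩ := List.mem_map.1 hy
    have hk' := hw k hk
    simp only [List.mem_cons, List.not_mem_nil, or_false] at hk'
    rcases hk' with rfl | rfl | rfl | rfl | rfl | rfl
    exacts [y2, y3, y4, y5, y6, y7]
  have k1 : aC 1 ∈ K := word (aC 1) [2, 3, 3, 2] (by simp [Lift.pairs, aC]) (by decide) (by decide +kernel)
  have k2 : aC 2 ∈ K := word (aC 2) [2, 3] (by simp [Lift.pairs, aC]) (by decide) (by decide +kernel)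
  have kS : cS ∈ K := word cS [2, 3, 4, 5, 2, 3] (by simp [Lift.pairs, cS]) (by decide) (by decide +kernel)
  have k8 : aC 8 ∈ K := word (aC 8) [4, 5, 6, 7, 4, 5] (by simp [Lift.pairs, aC]) (by decide) (by decide +kernel)
  have kW : cHW ∈ K := word cHW [4, 5, 5, 4] (by simp [Lift.pairs, cHW]) (by decide) (by decide +kernel)
  have kP : cP ∈ K := word cP [2, 3, 6, 7, 2, 3, 4, 5] (by simp [Lift.pairs, cP]) (by decide) (by decide +kernel)
  have kconj : ∀ c x : ↥C₀, c.1 0 = 0 → x ∈ K → c * x * c⁻¹ ∈ K := fun c x h0 hx => inK.2 (by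
    rw [map_mul toAlt, map_mul toAlt, map_inv toAlt, equi c h0, inK.1 hx, map_mul T.F.ι, map_mul T.F.ι, map_inv T.F.ι])
  have k4 : aC 4 ∈ K := by
    rw [show aC 4 = cP * aC 1 * cP from by decide +kernel]; exact mul_mem (mul_mem kP k1) kP
  obtain ⟨c₁, hc₁, hc₁0⟩ : ∃ c₁ : ↥C₀, (c₁ : Perm (Fin 12)) = swap 2 8 * swap 3 9 ∧ c₁.1 0 = 0 :=
    ⟨⟨swap 2 8 * swap 3 9, by decide +kernel⟩, rfl, by decide +kernel⟩
  obtain ⟨c₂, hc₂, hc₂0⟩ : ∃ c₂ : ↥C₀, (c₂ : Perm (Fin 12)) = swap 2 6 * swap 3 7 * (swap 4 10 * swap 5 11) ∧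
      c₂.1 0 = 0 :=
    ⟨⟨swap 2 6 * swap 3 7 * (swap 4 10 * swap 5 11), by decide +kernel⟩, rfl, by decide +kernel⟩
  obtain ⟨c₃, hc₃, hc₃0⟩ : ∃ c₃ : ↥C₀, (c₃ : Perm (Fin 12)) = swap 2 6 * swap 3 7 * (swap 4 8 * swap 5 9) ∧
      c₃.1 0 = 0 :=
    ⟨⟨swap 2 6 * swap 3 7 * (swap 4 8 * swap 5 9), by decide +kernel⟩, rfl, by decide +kernel⟩
  have kF : cFlip ∈ K := by
    have := kconj c₁ _ hc₁0 (mul_mem kW k1)
    rwa [show c₁ * (cHW * aC 1) * c₁⁻¹ = cFlip from Subtype.ext (by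
      simp only [Subgroup.coe_mul, Subgroup.coe_inv, hc₁]; refine Equiv.ext ?_; decide +kernel)] at this
  have kS' : cS' ∈ K := by
    have := kconj c₃ _ hc₃0 kS
    rwa [show c₃ * cS * c₃⁻¹ = cS' from Subtype.ext (by
      simp only [Subgroup.coe_mul, Subgroup.coe_inv, hc₃]; refine Equiv.ext ?_; decide +kernel)] at this
  have kX : cX ∈ K := by
    have := mul_mem (kconj c₁ _ hc₁0 kS) (kconj c₂ _ hc₂0 kS)
    rwa [show c₁ * cS * c₁⁻¹ * (c₂ * cS * c₂⁻¹) = cX from Subtype.ext (by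
      simp only [Subgroup.coe_mul, Subgroup.coe_inv, hc₁, hc₂]; refine Equiv.ext ?_; decide +kernel)] at this
  have k16 : aC 16 ∈ K := by
    rw [show aC 16 = cX * aC 4 * cX from by decide +kernel]; exact mul_mem (mul_mem kX k4) kX
  have k32 : aC 32 ∈ K := by
    rw [show aC 32 = cX * aC 8 * cX from by decide +kernel]; exact mul_mem (mul_mem kX k8) kX
  have k3 : aC 3 ∈ K := by rw [show (aC 3) = aC 1 * aC 2 from by decide +kernel]; exact mul_mem k1 k2
  have k12 : aC 12 ∈ K := by rw [show (aC 12) = aC 4 * aC 8 from by decide +kernel]; exact mul_mem k4 k8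
  have kY : cY ∈ K := by rw [show cY = cP * cX * cP from by decide +kernel]; exact mul_mem (mul_mem kP kX) kP
  have kcode : ∀ v : Fin 64, v.1 % 4 = 0 → aC v ∈ K := by
    intro v hv
    have key : ∀ v : Fin 64, v.1 % 4 = 0 → aC v = (if v.1 / 4 % 2 = 1 then aC 4 else 1) *
        (if v.1 / 8 % 2 = 1 then aC 8 else 1) * (if v.1 / 16 % 2 = 1 then aC 16 else 1) *
        (if v.1 / 32 = 1 then aC 32 else 1) := by decide +kernel
    rw [key v hv]
    refine mul_mem (mul_mem (mul_mem ?_ ?_) ?_) ?_ <;> split <;> first | assumption | exact one_mem _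
  have kstab : ∀ x, Stab x → x ∈ K := by
    intro x hx
    induction hx with
    | code v h => exact kcode v h
    | flip => exact kF
    | exch => exact kX
    | cross => exact kS'
    | mul _ _ a b => exact mul_mem a b
  intro x
  refine inK.1 ?_
  obtain ⟨g, hg⟩ : ∃ g, g = rep0 (x.1 0) := ⟨_, rfl⟩
  have getD_in : ∀ (l : List ↥C₀) (n : ℕ) (S : Subgroup ↥C₀), (∀ e ∈ l, e ∈ S) → l.getD n 1 ∈ S := by
    intro l n S h
    rcases lt_or_ge n l.length with hn | hn
    · rw [List.getD_eq_getElem _ _ hn]; exact h _ (List.getElem_mem hn)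
    · rw [List.getD_eq_default _ _ hn]; exact one_mem S
  have hgK : g ∈ K := by
    rw [hg]
    refine getD_in _ _ K ?_
    simp only [List.forall_mem_cons]
    exact ⟨one_mem _, k1, k2, k3, kP, mul_mem kP k1, mul_mem kP k2, mul_mem kP k3, kY, mul_mem kY k1,
      mul_mem kY k2, mul_mem kY k3, fun _ h => absurd h List.not_mem_nil⟩
  obtain ⟨y, hy⟩ : ∃ y, y = g⁻¹ * x := ⟨_, rfl⟩
  have y0 : y.1 0 = 0 := by
    rw [hy]; show g.1⁻¹ (x.1 0) = 0; rw [hg]; exact inv_app _ (rep0_facts _)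
  have y1 : y.1 1 = 1 := by have := app_t₀ y 0; rwa [t₀_pairs.1, y0, t₀_pairs.1] at this
  have hy2 : 2 ≤ (y.1 2).1 := by
    refine ne2 _ (fun e => ?_) fun e => ?_
    · exact absurd (y.1.injective (e.trans y0.symm)) (by decide)
    · exact absurd (y.1.injective (e.trans y1.symm)) (by decide)
  obtain ⟨r0, -, r2⟩ := rep2_facts _ hy2
  have hrK : rep2 (y.1 2) ∈ K := by
    refine getD_in _ _ K ?_
    simp only [List.forall_mem_cons]
    exact ⟨one_mem _, one_mem _, one_mem _, mul_mem kW k1, kS, mul_mem kS (mul_mem kW k1), mul_mem k8 kS,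
      mul_mem k12 kS, mul_mem kX kS, mul_mem (mul_mem kX kF) kS, mul_mem (mul_mem kX k8) kS,
      mul_mem (mul_mem kX k12) kS, fun _ h => absurd h List.not_mem_nil⟩
  have hst : Stab ((rep2 (y.1 2))⁻¹ * y) := stab_of_fix _
    (by show (rep2 (y.1 2)).1⁻¹ (y.1 0) = 0; rw [y0]; exact inv_app _ r0)
    (by show (rep2 (y.1 2)).1⁻¹ (y.1 2) = 2; exact inv_app _ r2)
  have := mul_mem hgK (mul_mem hrK (kstab _ hst))
  rwa [mul_inv_cancel_left, hy, mul_inv_cancel_left] at this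

end Twenty

end CfsgLib.Alt12Inv
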